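import Mathlib

/-!
# Configurations of elements in `Ru`, `O'N`, `J3`, and their lifts to central extensions
-/

set_option autoImplicit false

namespace Cfsg.Agent.Pari

open Subgroup

/-- A central extension with kernel generated by an element `b` with `b ^ 3 = 1`. -/
structure Cov {A S : Type*} [Group A] [Group S] (φ : A →* S) (b : A) : Prop where
  surj : Function.Surjective φ
  cen : ∀ a, a * b = b * a
  cube : b ^ 3 = 1
  ker : ∀ a, φ a = 1 ↔ a ∈ zpowers b

namespace Cov

variable {A S : Type*} [Group A] [Group S] {φ : A →* S} {b : A} (h : Cov φ b)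
include h

theorem ex {a a' : A} (e : φ a = φ a') : ∃ k : ℕ, a = a' * b ^ k := by
  have h1 : a'⁻¹ * a ∈ zpowers b := (h.ker _).1 (by rw [map_mul, map_inv, e, inv_mul_cancel])
  obtain ⟨k, hk⟩ :=
    (isOfFinOrder_iff_pow_eq_one.2 ⟨3, by decide, h.cube⟩).mem_powers_iff_mem_zpowers.2 h1
  exact ⟨k, by rw [show b ^ k = a'⁻¹ * a from hk, mul_inv_cancel_left]⟩

theorem cm (a : A) (k : ℕ) : Commute a (b ^ k) := Commute.pow_right (h.cen a) k

theorem uniq {n : ℕ} (hn : n.Coprime 3) {a a' : A} (e : φ a = φ a') (ha : a ^ n = 1)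
    (ha' : a' ^ n = 1) : a = a' := by
  obtain ⟨k, rfl⟩ := h.ex e
  rw [(h.cm a' k).mul_pow, ha', one_mul] at ha
  have h3 : (b ^ k) ^ 3 = 1 := by rw [← pow_mul, mul_comm, pow_mul, h.cube, one_pow]
  have := pow_gcd_eq_one.2 ⟨ha, h3⟩
  rw [hn, pow_one] at this
  rw [this, mul_one]

theorem lift {n : ℕ} (hn : n.Coprime 3) {s : S} (hs : s ^ n = 1) : ∃ a, φ a = s ∧ a ^ n = 1 := by
  obtain ⟨a, rfl⟩ := h.surj s
  obtain ⟨k, hk⟩ := h.ex (a := a ^ n) (a' := 1) (by rw [map_pow, hs, map_one])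
  refine ⟨a * b ^ (2 * k * n), ?_, ?_⟩
  · rw [map_mul, (h.ker _).2 (pow_mem (mem_zpowers b) _), mul_one]
  · rw [(h.cm a _).mul_pow, hk, one_mul, ← pow_mul, ← pow_add]
    have h1 : n % 3 = 1 ∨ n % 3 = 2 := by
      have := (Nat.Prime.coprime_iff_not_dvd Nat.prime_three).1 hn.symm
      omega
    have h2 : (k + 2 * k * n * n) % 3 = 0 := by
      have : k % 3 = 0 ∨ k % 3 = 1 ∨ k % 3 = 2 := by omega
      rcases h1 with e | e <;> rcases this with e' | e' | e' <;>
        simp [Nat.add_mod, Nat.mul_mod, e, e']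
    rw [← Nat.div_add_mod (k + 2 * k * n * n) 3, h2, add_zero, pow_mul, h.cube, one_pow]

theorem conj {n : ℕ} (hn : n.Coprime 3) {g a a' : A} (e : φ g * φ a * (φ g)⁻¹ = φ a')
    (ha : a ^ n = 1) (ha' : a' ^ n = 1) : g * a * g⁻¹ = a' :=
  h.uniq hn (by simpa using e) (by rw [conj_pow, ha, mul_one, mul_inv_cancel]) ha'

theorem comm {n : ℕ} (hn : n.Coprime 3) {g a : A} (e : φ g * φ a = φ a * φ g) (ha : a ^ n = 1) :
    g * a = a * g :=
  mul_inv_eq_iff_eq_mul.1 (h.conj hn (mul_inv_eq_iff_eq_mul.2 e) ha ha)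

theorem real {x i : A} (hx : φ x ^ 3 = 1) (e : φ i * φ x * (φ i)⁻¹ = (φ x)⁻¹) : x ^ 3 = 1 := by
  obtain ⟨k, hk⟩ := h.ex (a := x ^ 3) (a' := 1) (by rw [map_pow, hx, map_one])
  obtain ⟨l, hl⟩ := h.ex (a := i * x * i⁻¹) (a' := x⁻¹) (by simpa using e)
  have h1 := congrArg (· ^ 3) hl
  simp only [conj_pow] at h1
  rw [(h.cm _ l).mul_pow, ← pow_mul, mul_comm l, pow_mul, h.cube, one_pow, mul_one, inv_pow, hk,
    one_mul, (h.cm i k).eq, mul_inv_cancel_right, eq_inv_iff_mul_eq_one, ← pow_two] at h1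
  have h3 : (b ^ k) ^ 3 = 1 := by rw [← pow_mul, mul_comm, pow_mul, h.cube, one_pow]
  rw [hk, one_mul]
  simpa using pow_gcd_eq_one.2 ⟨h1, h3⟩

theorem isPGroup : IsPGroup 3 φ.ker := fun g => by
  obtain ⟨k, hk⟩ := h.ex (a := g.1) (a' := 1) (by rw [map_one]; exact g.2)
  exact ⟨1, Subtype.ext (by
    rw [coe_pow, hk, one_mul, pow_one, ← pow_mul, mul_comm, pow_mul, h.cube, one_pow]; rfl)⟩

end Cov

theorem lt_orderOf {A S : Type*} [Group A] [Finite A] [Group S] (φ : A →* S) {a : A} {n : ℕ}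
    (h : n < orderOf (φ a)) : n < orderOf a :=
  h.trans_le (Nat.le_of_dvd (orderOf_pos a) (orderOf_map_dvd φ a))

/-- Elements of `Ru`. -/
structure CRu (X : Type*) [Group X] where
  (t v y g : X)
  tt : t * t = 1
  vv : v * v = 1
  v1 : v ≠ 1
  vt : v ≠ t
  tv : v * t = t * v
  y13 : orderOf y = 13
  yt : y * t = t * y
  yv : y * v = v * y
  o : 6 < orderOf (t * (g * t * g⁻¹))

variable {X Y : Type*} [Group X] [Group Y]

/-- Image of the configuration. -/
def CRu.map (c : CRu X) (θ : X →* Y) (hθ : Function.Injective θ) : CRu Y where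
  t := θ c.t
  v := θ c.v
  y := θ c.y
  g := θ c.g
  tt := by simpa only [map_mul, map_inv, map_pow, map_one] using congrArg θ c.tt
  vv := by simpa only [map_mul, map_inv, map_pow, map_one] using congrArg θ c.vv
  v1 := (map_ne_one_iff θ hθ).2 c.v1
  vt := hθ.ne c.vt
  tv := by simpa only [map_mul, map_inv, map_pow, map_one] using congrArg θ c.tv
  y13 := (orderOf_injective θ hθ _).trans c.y13
  yt := by simpa only [map_mul, map_inv, map_pow, map_one] using congrArg θ c.yt
  yv := by simpa only [map_mul, map_inv, map_pow, map_one] using congrArg θ c.yv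
  o := by simpa only [map_mul, map_inv] using c.o.trans_eq (orderOf_injective θ hθ _).symm

/-- Elements of `O'N` or of its triple cover. -/
structure CON (X : Type*) [Group X] where
  (t s g g1 g2 y w e i u1 u2 n1 n2 n3 b : X)
  (k0 k1 k2 k3 k4 k5 k6 : ℕ)
  tt : t * t = 1
  st : s * t = t * s
  o : 6 < orderOf (t * (g * t * g⁻¹))
  c1 : g1 * t * g1⁻¹ = s
  c2 : g2 * t * g2⁻¹ = s * t
  y7 : orderOf y = 7
  yt : y * t = t * y
  wt : w * t = t * w
  et : e * t = t * e
  it : i * t = t * i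
  n1t : n1 * t = t * n1
  n2t : n2 * t = t * n2
  n3t : n3 * t = t * n3
  wy : w * y * w⁻¹ = y ^ 2
  iy : i * y * i⁻¹ = y ^ 6
  u1y : u1 * y = y * u1
  u2y : u2 * y = y * u2
  b3 : b ^ 3 = 1
  bt : b * t = t * b
  bs : b * s = s * b
  yb : y * b = b * y
  wb : w * b = b * w
  eb : e * b = b * e
  ib : i * b = b * i
  n1b : n1 * b = b * n1
  n2b : n2 * b = b * n2
  n3b : n3 * b = b * n3
  w3 : w ^ 3 = b ^ k5
  e3 : e ^ 3 = b ^ k6
  ew : e * w = w * e * b ^ k0
  m1 : n1 * w * n1⁻¹ = e * b ^ k1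
  m2 : n2 * w * n2⁻¹ = w * e * b ^ k2
  m3 : n3 * w * n3⁻¹ = w * e * e * b ^ k3
  uu : u1 * u2 * u1⁻¹ * u2⁻¹ = y * b ^ k4

/-- Image of the configuration. -/
def CON.map (c : CON X) (θ : X →* Y) (hθ : Function.Injective θ) : CON Y where
  t := θ c.t
  s := θ c.s
  g := θ c.g
  g1 := θ c.g1
  g2 := θ c.g2
  y := θ c.y
  w := θ c.w
  e := θ c.e
  i := θ c.i
  u1 := θ c.u1
  u2 := θ c.u2
  n1 := θ c.n1
  n2 := θ c.n2
  n3 := θ c.n3
  b := θ c.b
  k0 := c.k0
  k1 := c.k1
  k2 := c.k2
  k3 := c.k3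
  k4 := c.k4
  k5 := c.k5
  k6 := c.k6
  tt := by simpa only [map_mul, map_inv, map_pow, map_one] using congrArg θ c.tt
  st := by simpa only [map_mul, map_inv, map_pow, map_one] using congrArg θ c.st
  o := by simpa only [map_mul, map_inv] using c.o.trans_eq (orderOf_injective θ hθ _).symm
  c1 := by simpa only [map_mul, map_inv, map_pow, map_one] using congrArg θ c.c1
  c2 := by simpa only [map_mul, map_inv, map_pow, map_one] using congrArg θ c.c2
  y7 := (orderOf_injective θ hθ _).trans c.y7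
  yt := by simpa only [map_mul, map_inv, map_pow, map_one] using congrArg θ c.yt
  wt := by simpa only [map_mul, map_inv, map_pow, map_one] using congrArg θ c.wt
  et := by simpa only [map_mul, map_inv, map_pow, map_one] using congrArg θ c.et
  it := by simpa only [map_mul, map_inv, map_pow, map_one] using congrArg θ c.it
  n1t := by simpa only [map_mul, map_inv, map_pow, map_one] using congrArg θ c.n1t
  n2t := by simpa only [map_mul, map_inv, map_pow, map_one] using congrArg θ c.n2t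
  n3t := by simpa only [map_mul, map_inv, map_pow, map_one] using congrArg θ c.n3t
  wy := by simpa only [map_mul, map_inv, map_pow, map_one] using congrArg θ c.wy
  iy := by simpa only [map_mul, map_inv, map_pow, map_one] using congrArg θ c.iy
  u1y := by simpa only [map_mul, map_inv, map_pow, map_one] using congrArg θ c.u1y
  u2y := by simpa only [map_mul, map_inv, map_pow, map_one] using congrArg θ c.u2y
  b3 := by simpa only [map_mul, map_inv, map_pow, map_one] using congrArg θ c.b3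
  bt := by simpa only [map_mul, map_inv, map_pow, map_one] using congrArg θ c.bt
  bs := by simpa only [map_mul, map_inv, map_pow, map_one] using congrArg θ c.bs
  yb := by simpa only [map_mul, map_inv, map_pow, map_one] using congrArg θ c.yb
  wb := by simpa only [map_mul, map_inv, map_pow, map_one] using congrArg θ c.wb
  eb := by simpa only [map_mul, map_inv, map_pow, map_one] using congrArg θ c.eb
  ib := by simpa only [map_mul, map_inv, map_pow, map_one] using congrArg θ c.ib
  n1b := by simpa only [map_mul, map_inv, map_pow, map_one] using congrArg θ c.n1b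
  n2b := by simpa only [map_mul, map_inv, map_pow, map_one] using congrArg θ c.n2b
  n3b := by simpa only [map_mul, map_inv, map_pow, map_one] using congrArg θ c.n3b
  w3 := by simpa only [map_mul, map_inv, map_pow, map_one] using congrArg θ c.w3
  e3 := by simpa only [map_mul, map_inv, map_pow, map_one] using congrArg θ c.e3
  ew := by simpa only [map_mul, map_inv, map_pow, map_one] using congrArg θ c.ew
  m1 := by simpa only [map_mul, map_inv, map_pow, map_one] using congrArg θ c.m1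
  m2 := by simpa only [map_mul, map_inv, map_pow, map_one] using congrArg θ c.m2
  m3 := by simpa only [map_mul, map_inv, map_pow, map_one] using congrArg θ c.m3
  uu := by simpa only [map_mul, map_inv, map_pow, map_one] using congrArg θ c.uu

theorem CON.lift [Finite X] {φ : X →* Y} {b : X} (h : Cov φ b) (c : CON Y) (hb : c.b = 1) :
    Nonempty (CON X) := by
  obtain ⟨t, s, g, g1, g2, y, w, e, i, u1, u2, n1, n2, n3, b0, k0, k1, k2, k3, k4, k5, k6, tt, st, o,
    c1, c2, y7, yt, wt, et, it, n1t, n2t, n3t, wy, iy, u1y, u2y, _, _, _, _, _, _, _, _, _, _, w3, e3,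
    ew, m1, m2, m3, uu⟩ := c
  subst hb
  simp only [one_pow, mul_one] at w3 e3 ew m1 m2 m3 uu
  have d2 : Nat.Coprime 2 3 := by decide
  have d7 : Nat.Coprime 7 3 := by decide
  obtain ⟨t, rfl, t2⟩ := h.lift d2 ((pow_two t).trans tt)
  obtain ⟨y, rfl, y7'⟩ := h.lift d7 (y7 ▸ pow_orderOf_eq_one y)
  obtain ⟨g, rfl⟩ := h.surj g
  obtain ⟨g1, rfl⟩ := h.surj g1
  obtain ⟨g2, rfl⟩ := h.surj g2
  obtain ⟨w, rfl⟩ := h.surj w
  obtain ⟨e, rfl⟩ := h.surj e
  obtain ⟨i, rfl⟩ := h.surj i
  obtain ⟨u1, rfl⟩ := h.surj u1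
  obtain ⟨u2, rfl⟩ := h.surj u2
  obtain ⟨n1, rfl⟩ := h.surj n1
  obtain ⟨n2, rfl⟩ := h.surj n2
  obtain ⟨n3, rfl⟩ := h.surj n3
  subst c1
  have st' := h.comm d2 (g := g1 * t * g1⁻¹) (by simpa using st) t2
  have p7 : ∀ k, (y ^ k) ^ 7 = 1 := fun k => by rw [← pow_mul, mul_comm, pow_mul, y7', one_pow]
  obtain ⟨k0, ew⟩ := h.ex (a := e * w) (a' := w * e) (by simpa using ew)
  obtain ⟨k1, m1⟩ := h.ex (a := n1 * w * n1⁻¹) (a' := e) (by simpa using m1)
  obtain ⟨k2, m2⟩ := h.ex (a := n2 * w * n2⁻¹) (a' := w * e) (by simpa using m2)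
  obtain ⟨k3, m3⟩ := h.ex (a := n3 * w * n3⁻¹) (a' := w * e * e) (by simpa using m3)
  obtain ⟨k4, uu⟩ := h.ex (a := u1 * u2 * u1⁻¹ * u2⁻¹) (a' := y) (by simpa using uu)
  obtain ⟨k5, w3⟩ := h.ex (a := w ^ 3) (a' := 1) (by simpa using w3)
  obtain ⟨k6, e3⟩ := h.ex (a := e ^ 3) (a' := 1) (by simpa using e3)
  have : Fact (Nat.Prime 7) := ⟨by norm_num⟩
  exact ⟨⟨t, g1 * t * g1⁻¹, g, g1, g2, y, w, e, i, u1, u2, n1, n2, n3, b, k0, k1, k2, k3, k4, k5, k6,
    (pow_two t).symm.trans t2, st', lt_orderOf φ (by simpa using o), rfl,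
    h.conj d2 (by simpa using c2) t2 (by
      rw [Commute.mul_pow st', t2, conj_pow, t2, mul_one, mul_one, mul_inv_cancel]),
    orderOf_eq_prime y7' fun e => by simp [e] at y7, h.comm d2 yt t2, h.comm d2 wt t2,
    h.comm d2 et t2, h.comm d2 it t2, h.comm d2 n1t t2, h.comm d2 n2t t2, h.comm d2 n3t t2,
    h.conj d7 (by simpa using wy) y7' (p7 2), h.conj d7 (by simpa using iy) y7' (p7 6),
    h.comm d7 u1y y7', h.comm d7 u2y y7', h.cube, (h.cen _).symm, (h.cen _).symm, h.cen _, h.cen _,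
    h.cen _, h.cen _, h.cen _, h.cen _, h.cen _, by simpa using w3, by simpa using e3, ew, m1, m2,
    m3, uu⟩⟩

/-- Elements of `J3` or of its triple cover. -/
structure CJ1 (X : Type*) [Group X] where
  (t s g x n x' : X)
  tt : t * t = 1
  st : s * t = t * s
  o : 6 < orderOf (t * (g * t * g⁻¹))
  x3 : x ^ 3 = 1
  xt : x * t = t * x
  xs : x * s = s * x
  nx : n * x * n⁻¹ = x'
  x't : x' * t * x'⁻¹ = s
  x's : x' * s * x'⁻¹ = s * t
  pg : IsPGroup 3 (closure {x, x'})

/-- Image of the configuration. -/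
def CJ1.map (c : CJ1 X) (θ : X →* Y) (hθ : Function.Injective θ) : CJ1 Y where
  t := θ c.t
  s := θ c.s
  g := θ c.g
  x := θ c.x
  n := θ c.n
  x' := θ c.x'
  tt := by simpa only [map_mul, map_inv, map_pow, map_one] using congrArg θ c.tt
  st := by simpa only [map_mul, map_inv, map_pow, map_one] using congrArg θ c.st
  o := by simpa only [map_mul, map_inv] using c.o.trans_eq (orderOf_injective θ hθ _).symm
  x3 := by simpa only [map_mul, map_inv, map_pow, map_one] using congrArg θ c.x3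
  xt := by simpa only [map_mul, map_inv, map_pow, map_one] using congrArg θ c.xt
  xs := by simpa only [map_mul, map_inv, map_pow, map_one] using congrArg θ c.xs
  nx := by simpa only [map_mul, map_inv, map_pow, map_one] using congrArg θ c.nx
  x't := by simpa only [map_mul, map_inv, map_pow, map_one] using congrArg θ c.x't
  x's := by simpa only [map_mul, map_inv, map_pow, map_one] using congrArg θ c.x's
  pg := by
    have := c.pg.map θ
    rwa [MonoidHom.map_closure, Set.image_pair] at this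

theorem CJ1.lift [Finite X] {φ : X →* Y} {b : X} (h : Cov φ b) (c : CJ1 Y) {i : Y}
    (hi : i * c.x * i⁻¹ = c.x⁻¹) : ∃ c' : CJ1 X, φ c'.t = c.t ∧ φ c'.s = c.s := by
  obtain ⟨t, s, g, x, n, x', tt, st, o, x3, xt, xs, nx, x't, x's, pg⟩ := c
  have d2 : Nat.Coprime 2 3 := by decide
  obtain ⟨t, rfl, t2⟩ := h.lift d2 ((pow_two t).trans tt)
  obtain ⟨g, rfl⟩ := h.surj g
  obtain ⟨x, rfl⟩ := h.surj x
  obtain ⟨n, rfl⟩ := h.surj n
  obtain ⟨i, rfl⟩ := h.surj i
  subst nx x't
  have s2 : (n * x * n⁻¹ * t * (n * x * n⁻¹)⁻¹) ^ 2 = 1 := by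
    rw [conj_pow, t2, mul_one, mul_inv_cancel]
  have st' := h.comm d2 (g := n * x * n⁻¹ * t * (n * x * n⁻¹)⁻¹)
    (by simpa only [map_mul, map_inv] using st) t2
  refine ⟨⟨t, _, g, x, n, _, (pow_two t).symm.trans t2, st', lt_orderOf φ (by simpa using o),
    h.real x3 hi, h.comm d2 xt t2, h.comm d2 (by simpa only [map_mul, map_inv] using xs) s2, rfl, rfl,
    h.conj d2 (by simpa only [map_mul, map_inv] using x's) s2 (by
      rw [Commute.mul_pow st', t2, s2, mul_one]),
    (pg.comap_of_ker_isPGroup φ h.isPGroup).to_le ((closure_le _).2 ?_)⟩, rfl,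
    by simp only [map_mul, map_inv]⟩
  rintro _ (rfl | rfl)
  · exact subset_closure (Or.inl rfl)
  · exact subset_closure (Or.inr (by simp))

/-- More elements of `J3`. -/
structure CJ2 (X : Type*) [Group X] extends CJ1 X where
  (i f s2 s3 s4 s5 τ v v' u u' p p' : X)
  ix : i * x * i⁻¹ = x⁻¹
  ft : f * t = t * f
  h2 : f * s * f⁻¹ = s2
  h3 : f * s2 * f⁻¹ = s3
  h4 : f * s3 * f⁻¹ = s4
  h5 : f * s4 * f⁻¹ = s5
  h1 : f * s5 * f⁻¹ = s
  pr : s * s2 * s3 * s4 * s5 = t
  cc : s2 * s3 * (s2 * s3) = t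
  xc : x * (s2 * s3) * x⁻¹ = s2 * s4
  vv : v * v = 1
  vt : v * t = t * v
  vs : v * s = s * v
  hv' : x * v * x⁻¹ = v'
  hv'' : x * v' * x⁻¹ = v * v'
  τt : τ * t = t * τ
  τs : τ * s * τ⁻¹ = s * t
  hu : τ * v * τ⁻¹ = u
  hu' : x * u * x⁻¹ = u'
  hu'' : x * u' * x⁻¹ = u * u'
  vu : v * u = s2 * s3
  vu' : v * u' * (v * u') = s * t
  vuu' : v * (u * u') * (v * (u * u')) = s
  hp : x' * (s2 * s3) * x'⁻¹ = p
  hp' : x' * (s2 * s4) * x'⁻¹ = p'
  cs : s2 * s3 * s = s * (s2 * s3)
  pt : p * t = t * p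
  p't : p' * t = t * p'
  pp : p * p = s
  p'p' : p' * p' = s
  cp : p * (s2 * s3) * p⁻¹ = (s2 * s3)⁻¹ * s
  cp' : p' * (s2 * s3) * p'⁻¹ = (s2 * s3)⁻¹ * s
  qq : p * p'⁻¹ * (p * p'⁻¹) = s
  ps : p * s2 * p⁻¹ * s2⁻¹ * (p * s2 * p⁻¹ * s2⁻¹) = t
  p's : p' * s2 * p'⁻¹ * s2⁻¹ * (p' * s2 * p'⁻¹ * s2⁻¹) = t

/-- Image of the configuration. -/
def CJ2.map (c : CJ2 X) (θ : X →* Y) (hθ : Function.Injective θ) : CJ2 Y where
  toCJ1 := c.toCJ1.map θ hθ
  i := θ c.i
  f := θ c.f
  s2 := θ c.s2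
  s3 := θ c.s3
  s4 := θ c.s4
  s5 := θ c.s5
  τ := θ c.τ
  v := θ c.v
  v' := θ c.v'
  u := θ c.u
  u' := θ c.u'
  p := θ c.p
  p' := θ c.p'
  ix := by simpa only [map_mul, map_inv, map_one, CJ1.map] using congrArg θ c.ix
  ft := by simpa only [map_mul, map_inv, map_one, CJ1.map] using congrArg θ c.ft
  h2 := by simpa only [map_mul, map_inv, map_one, CJ1.map] using congrArg θ c.h2
  h3 := by simpa only [map_mul, map_inv, map_one, CJ1.map] using congrArg θ c.h3
  h4 := by simpa only [map_mul, map_inv, map_one, CJ1.map] using congrArg θ c.h4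
  h5 := by simpa only [map_mul, map_inv, map_one, CJ1.map] using congrArg θ c.h5
  h1 := by simpa only [map_mul, map_inv, map_one, CJ1.map] using congrArg θ c.h1
  pr := by simpa only [map_mul, map_inv, map_one, CJ1.map] using congrArg θ c.pr
  cc := by simpa only [map_mul, map_inv, map_one, CJ1.map] using congrArg θ c.cc
  xc := by simpa only [map_mul, map_inv, map_one, CJ1.map] using congrArg θ c.xc
  vv := by simpa only [map_mul, map_inv, map_one, CJ1.map] using congrArg θ c.vv
  vt := by simpa only [map_mul, map_inv, map_one, CJ1.map] using congrArg θ c.vt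
  vs := by simpa only [map_mul, map_inv, map_one, CJ1.map] using congrArg θ c.vs
  hv' := by simpa only [map_mul, map_inv, map_one, CJ1.map] using congrArg θ c.hv'
  hv'' := by simpa only [map_mul, map_inv, map_one, CJ1.map] using congrArg θ c.hv''
  τt := by simpa only [map_mul, map_inv, map_one, CJ1.map] using congrArg θ c.τt
  τs := by simpa only [map_mul, map_inv, map_one, CJ1.map] using congrArg θ c.τs
  hu := by simpa only [map_mul, map_inv, map_one, CJ1.map] using congrArg θ c.hu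
  hu' := by simpa only [map_mul, map_inv, map_one, CJ1.map] using congrArg θ c.hu'
  hu'' := by simpa only [map_mul, map_inv, map_one, CJ1.map] using congrArg θ c.hu''
  vu := by simpa only [map_mul, map_inv, map_one, CJ1.map] using congrArg θ c.vu
  vu' := by simpa only [map_mul, map_inv, map_one, CJ1.map] using congrArg θ c.vu'
  vuu' := by simpa only [map_mul, map_inv, map_one, CJ1.map] using congrArg θ c.vuu'
  hp := by simpa only [map_mul, map_inv, map_one, CJ1.map] using congrArg θ c.hp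
  hp' := by simpa only [map_mul, map_inv, map_one, CJ1.map] using congrArg θ c.hp'
  cs := by simpa only [map_mul, map_inv, map_one, CJ1.map] using congrArg θ c.cs
  pt := by simpa only [map_mul, map_inv, map_one, CJ1.map] using congrArg θ c.pt
  p't := by simpa only [map_mul, map_inv, map_one, CJ1.map] using congrArg θ c.p't
  pp := by simpa only [map_mul, map_inv, map_one, CJ1.map] using congrArg θ c.pp
  p'p' := by simpa only [map_mul, map_inv, map_one, CJ1.map] using congrArg θ c.p'p'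
  cp := by simpa only [map_mul, map_inv, map_one, CJ1.map] using congrArg θ c.cp
  cp' := by simpa only [map_mul, map_inv, map_one, CJ1.map] using congrArg θ c.cp'
  qq := by simpa only [map_mul, map_inv, map_one, CJ1.map] using congrArg θ c.qq
  ps := by simpa only [map_mul, map_inv, map_one, CJ1.map] using congrArg θ c.ps
  p's := by simpa only [map_mul, map_inv, map_one, CJ1.map] using congrArg θ c.p's

/-- The elementary abelian subgroup of order `27` of `J3` and two elements of its normaliser. -/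
structure CJ3 (X : Type*) [Group X] where
  (a b z σ τ : X)
  a3 : a ^ 3 = 1
  b3 : b ^ 3 = 1
  z3 : z ^ 3 = 1
  z1 : z ≠ 1
  ab : a * b = b * a
  az : a * z = z * a
  bz : b * z = z * b
  τa : a * τ = τ * (a * z)
  τb : b * τ = τ * b
  τz : z * τ = τ * z
  σa : a * σ = σ * (a * a)
  σz : z * σ = σ * b
  σb : b * σ = σ * (b * z)

end Cfsg.Agent.Pari
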