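import Cfsg.Agent.Comp.Ev
import Cfsg.Agent.Pari.Cfg
import Cfsg.Agent.Spor.OutJ3

set_option autoImplicit false
set_option maxRecDepth 8192

namespace Cfsg.Agent.Pari.DJ3

open Cfsg.Agent.Comp Cfsg.Agent.Spor OutJ3

/-- The permutation model. -/
noncomputable abbrev GG : Subgroup (Equiv.Perm ℕ) := gen ns [[0], [2]]

/-- The identity. -/
noncomputable def eG : GG ≃* GG := MulEquiv.refl _

theorem mo : Mo 8192 13 ns GG 3 := ⟨ctx, kn_0, gen_le_supp ctx.ok _⟩

theorem bas : Bas 8192 GG [0, 2939, 2859] := bas_of_exact A_ex.1 A_ex.2.1 (by decide +kernel)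

theorem qs : QS eG ns (eqP E [0, 2939, 2859] 3) := mo.qsP hE bas eG

theorem isPGroup_pair {X : Type*} [Group X] {a b : X} (ha : a ^ 3 = 1) (hb : b ^ 3 = 1)
    (h : a * b = b * a) : IsPGroup 3 (Subgroup.closure {a, b}) := by
  have c : ∀ x ∈ ({a, b} : Set X), ∀ y ∈ ({a, b} : Set X), x * y = y * x := by
    rintro _ (rfl | rfl) _ (rfl | rfl) <;> simp [h]
  rintro ⟨g, hg⟩
  refine ⟨1, Subtype.ext ?_⟩
  change g ^ 3 ^ 1 = 1
  induction hg using Subgroup.closure_induction with
  | mem x hx => rcases hx with rfl | rfl <;> assumption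
  | one => simp
  | mul x y hx hy h1 h2 =>
    have := Subgroup.isMulCommutative_closure c
    rw [Commute.mul_pow (setLike_mul_comm hx hy), h1, h2, mul_one]
  | inv x _ h1 => rw [inv_pow, h1, inv_one]

def c_t : List ℕ := [1, 2, 1, 3, 3, 0, 2, 0, 0, 2, 1, 2, 1, 1, 3, 0, 0]

def c_s : List ℕ := [2, 1, 3, 3, 0, 2, 2, 1, 3, 0, 3, 0, 0, 3, 1, 1]

def c_g : List ℕ := [2, 2, 1, 3, 1, 3, 0, 0, 3, 3, 1, 1, 1, 2, 2, 2, 0]

def c_x : List ℕ := [3, 0, 2, 0, 0, 2, 0, 2, 0, 3, 3, 1, 1, 3, 0]

def c_n : List ℕ := [2, 1, 1, 2, 0, 0, 3, 3, 1, 1, 3, 3, 0, 3, 1, 1]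

def c_xq : List ℕ := [3, 3, 1, 2, 0, 0, 0, 2, 0, 3, 3, 1, 1, 1, 2, 1]

def c_i : List ℕ := [3, 0, 0, 3, 0, 3, 3, 3, 1, 2, 2, 0, 0, 3, 3, 3]

def c_f : List ℕ := [0, 0, 2, 1, 1, 2, 0, 3, 3, 3, 0, 0, 2, 2, 0, 3, 3]

def c_s2 : List ℕ := [2, 2, 2, 1, 1, 1, 3, 1, 2, 1, 1, 1, 3, 0, 0, 3, 1]

def c_s3 : List ℕ := [1, 1, 1, 2, 2, 0, 0, 0, 3, 1, 1, 1, 2, 2, 0]

def c_s4 : List ℕ := [3, 1, 2, 2, 2, 1, 1, 1, 1, 3, 1, 1, 2, 1, 1]

def c_s5 : List ℕ := [1, 3, 1, 3, 3, 3, 0, 3, 3, 1, 1, 1, 2, 1, 2]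

def c_ta : List ℕ := [1, 2, 0, 3, 3, 0, 2, 1, 2, 2, 1, 2, 0, 3, 1, 1]

def c_v : List ℕ := [3, 0, 0, 2, 1, 3, 0, 0, 2, 0, 0, 2]

def c_vq : List ℕ := [1, 1, 1, 2, 2, 0, 2, 2, 0, 3, 1, 1, 1, 3, 3, 1, 2]

def c_u : List ℕ := [3, 3, 1, 2, 1, 2, 0, 2, 1, 2, 0, 2, 1, 1, 2, 1]

def c_uq : List ℕ := [0, 3, 1, 3, 3, 1, 1, 2, 2, 2, 2, 1, 1, 3, 1, 3, 1, 3]

def c_p : List ℕ := [0, 2, 2, 1, 3, 3, 0, 2, 0, 2, 1, 3, 3, 0, 0]

def c_pq : List ℕ := [1, 2, 1, 1, 3, 3, 1, 2, 2, 0, 3, 1, 2, 0, 3, 3]

def d_a : List ℕ := [0, 2, 0, 3, 3, 3, 3, 1, 2, 2, 2, 1, 3, 3, 1, 3]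

def d_b : List ℕ := [3, 1, 3, 3, 3, 3, 1, 3, 1, 1, 1, 3, 0, 2, 1, 1]

def d_z : List ℕ := [2, 0, 3, 3, 0, 2, 0, 0, 2, 0, 2, 0, 2]

def d_si : List ℕ := [3, 3, 3, 3, 1, 1, 3, 1, 2, 0, 2, 1, 2, 2, 2, 1, 2]

def d_ta : List ℕ := [0, 0, 3, 0, 0, 0, 2, 2, 1, 1, 2, 1, 1, 2, 2, 2, 0]

/-- The 2-local configuration. -/
noncomputable def c2 : CJ2 GG where
  t := ev eG ns c_t
  s := ev eG ns c_s
  g := ev eG ns c_g
  x := ev eG ns c_x
  n := ev eG ns c_n
  x' := ev eG ns c_xq
  tt := (by simpa only [ev_appendR, ev_invW, ev_powW, ev_nil] using qs (appendR c_t c_t) [] (by decide +kernel))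
  st := (by simpa only [ev_appendR, ev_invW, ev_powW, ev_nil] using qs (appendR c_s c_t) (appendR c_t c_s) (by decide +kernel))
  o := by
    have : Fact (Nat.Prime 17) := ⟨by norm_num⟩
    rw [orderOf_eq_prime (p := 17) (by simpa only [ev_appendR, ev_invW, ev_powW, ev_nil] using qs (powW (appendR c_t (appendR (appendR c_g c_t) (invW c_g))) 17) [] (by decide +kernel))
      (by simpa only [ev_appendR, ev_invW, ev_powW, ev_nil] using mo.ne_one eG (u := (appendR c_t (appendR (appendR c_g c_t) (invW c_g)))) 0 (by decide +kernel))]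
    norm_num
  x3 := (by simpa only [ev_appendR, ev_invW, ev_powW, ev_nil] using qs (powW c_x 3) [] (by decide +kernel))
  xt := (by simpa only [ev_appendR, ev_invW, ev_powW, ev_nil] using qs (appendR c_x c_t) (appendR c_t c_x) (by decide +kernel))
  xs := (by simpa only [ev_appendR, ev_invW, ev_powW, ev_nil] using qs (appendR c_x c_s) (appendR c_s c_x) (by decide +kernel))
  nx := (by simpa only [ev_appendR, ev_invW, ev_powW, ev_nil] using qs (appendR (appendR c_n c_x) (invW c_n)) c_xq (by decide +kernel))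
  x't := (by simpa only [ev_appendR, ev_invW, ev_powW, ev_nil] using qs (appendR (appendR c_xq c_t) (invW c_xq)) c_s (by decide +kernel))
  x's := (by simpa only [ev_appendR, ev_invW, ev_powW, ev_nil] using qs (appendR (appendR c_xq c_s) (invW c_xq)) (appendR c_s c_t) (by decide +kernel))
  pg := isPGroup_pair (by simpa only [ev_appendR, ev_invW, ev_powW, ev_nil] using qs (powW c_x 3) [] (by decide +kernel))
    (by simpa only [ev_appendR, ev_invW, ev_powW, ev_nil] using qs (powW c_xq 3) [] (by decide +kernel))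
    (by simpa only [ev_appendR, ev_invW, ev_powW, ev_nil] using qs (appendR c_x c_xq) (appendR c_xq c_x) (by decide +kernel))
  i := ev eG ns c_i
  f := ev eG ns c_f
  s2 := ev eG ns c_s2
  s3 := ev eG ns c_s3
  s4 := ev eG ns c_s4
  s5 := ev eG ns c_s5
  τ := ev eG ns c_ta
  v := ev eG ns c_v
  v' := ev eG ns c_vq
  u := ev eG ns c_u
  u' := ev eG ns c_uq
  p := ev eG ns c_p
  p' := ev eG ns c_pq
  ix := (by simpa only [ev_appendR, ev_invW, ev_powW, ev_nil] using qs (appendR (appendR c_i c_x) (invW c_i)) (invW c_x) (by decide +kernel))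
  ft := (by simpa only [ev_appendR, ev_invW, ev_powW, ev_nil] using qs (appendR c_f c_t) (appendR c_t c_f) (by decide +kernel))
  h2 := (by simpa only [ev_appendR, ev_invW, ev_powW, ev_nil] using qs (appendR (appendR c_f c_s) (invW c_f)) c_s2 (by decide +kernel))
  h3 := (by simpa only [ev_appendR, ev_invW, ev_powW, ev_nil] using qs (appendR (appendR c_f c_s2) (invW c_f)) c_s3 (by decide +kernel))
  h4 := (by simpa only [ev_appendR, ev_invW, ev_powW, ev_nil] using qs (appendR (appendR c_f c_s3) (invW c_f)) c_s4 (by decide +kernel))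
  h5 := (by simpa only [ev_appendR, ev_invW, ev_powW, ev_nil] using qs (appendR (appendR c_f c_s4) (invW c_f)) c_s5 (by decide +kernel))
  h1 := (by simpa only [ev_appendR, ev_invW, ev_powW, ev_nil] using qs (appendR (appendR c_f c_s5) (invW c_f)) c_s (by decide +kernel))
  pr := (by simpa only [ev_appendR, ev_invW, ev_powW, ev_nil] using qs (appendR (appendR (appendR (appendR c_s c_s2) c_s3) c_s4) c_s5) c_t (by decide +kernel))
  cc := (by simpa only [ev_appendR, ev_invW, ev_powW, ev_nil] using qs (appendR (appendR c_s2 c_s3) (appendR c_s2 c_s3)) c_t (by decide +kernel))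
  xc := (by simpa only [ev_appendR, ev_invW, ev_powW, ev_nil] using qs (appendR (appendR c_x (appendR c_s2 c_s3)) (invW c_x)) (appendR c_s2 c_s4) (by decide +kernel))
  vv := (by simpa only [ev_appendR, ev_invW, ev_powW, ev_nil] using qs (appendR c_v c_v) [] (by decide +kernel))
  vt := (by simpa only [ev_appendR, ev_invW, ev_powW, ev_nil] using qs (appendR c_v c_t) (appendR c_t c_v) (by decide +kernel))
  vs := (by simpa only [ev_appendR, ev_invW, ev_powW, ev_nil] using qs (appendR c_v c_s) (appendR c_s c_v) (by decide +kernel))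
  hv' := (by simpa only [ev_appendR, ev_invW, ev_powW, ev_nil] using qs (appendR (appendR c_x c_v) (invW c_x)) c_vq (by decide +kernel))
  hv'' := (by simpa only [ev_appendR, ev_invW, ev_powW, ev_nil] using qs (appendR (appendR c_x c_vq) (invW c_x)) (appendR c_v c_vq) (by decide +kernel))
  τt := (by simpa only [ev_appendR, ev_invW, ev_powW, ev_nil] using qs (appendR c_ta c_t) (appendR c_t c_ta) (by decide +kernel))
  τs := (by simpa only [ev_appendR, ev_invW, ev_powW, ev_nil] using qs (appendR (appendR c_ta c_s) (invW c_ta)) (appendR c_s c_t) (by decide +kernel))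
  hu := (by simpa only [ev_appendR, ev_invW, ev_powW, ev_nil] using qs (appendR (appendR c_ta c_v) (invW c_ta)) c_u (by decide +kernel))
  hu' := (by simpa only [ev_appendR, ev_invW, ev_powW, ev_nil] using qs (appendR (appendR c_x c_u) (invW c_x)) c_uq (by decide +kernel))
  hu'' := (by simpa only [ev_appendR, ev_invW, ev_powW, ev_nil] using qs (appendR (appendR c_x c_uq) (invW c_x)) (appendR c_u c_uq) (by decide +kernel))
  vu := (by simpa only [ev_appendR, ev_invW, ev_powW, ev_nil] using qs (appendR c_v c_u) (appendR c_s2 c_s3) (by decide +kernel))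
  vu' := (by simpa only [ev_appendR, ev_invW, ev_powW, ev_nil] using qs (appendR (appendR c_v c_uq) (appendR c_v c_uq)) (appendR c_s c_t) (by decide +kernel))
  vuu' := (by simpa only [ev_appendR, ev_invW, ev_powW, ev_nil] using qs (appendR (appendR c_v (appendR c_u c_uq)) (appendR c_v (appendR c_u c_uq))) c_s (by decide +kernel))
  hp := (by simpa only [ev_appendR, ev_invW, ev_powW, ev_nil] using qs (appendR (appendR c_xq (appendR c_s2 c_s3)) (invW c_xq)) c_p (by decide +kernel))
  hp' := (by simpa only [ev_appendR, ev_invW, ev_powW, ev_nil] using qs (appendR (appendR c_xq (appendR c_s2 c_s4)) (invW c_xq)) c_pq (by decide +kernel))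
  cs := (by simpa only [ev_appendR, ev_invW, ev_powW, ev_nil] using qs (appendR (appendR c_s2 c_s3) c_s) (appendR c_s (appendR c_s2 c_s3)) (by decide +kernel))
  pt := (by simpa only [ev_appendR, ev_invW, ev_powW, ev_nil] using qs (appendR c_p c_t) (appendR c_t c_p) (by decide +kernel))
  p't := (by simpa only [ev_appendR, ev_invW, ev_powW, ev_nil] using qs (appendR c_pq c_t) (appendR c_t c_pq) (by decide +kernel))
  pp := (by simpa only [ev_appendR, ev_invW, ev_powW, ev_nil] using qs (appendR c_p c_p) c_s (by decide +kernel))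
  p'p' := (by simpa only [ev_appendR, ev_invW, ev_powW, ev_nil] using qs (appendR c_pq c_pq) c_s (by decide +kernel))
  cp := (by simpa only [ev_appendR, ev_invW, ev_powW, ev_nil] using qs (appendR (appendR c_p (appendR c_s2 c_s3)) (invW c_p)) (appendR (invW (appendR c_s2 c_s3)) c_s) (by decide +kernel))
  cp' := (by simpa only [ev_appendR, ev_invW, ev_powW, ev_nil] using qs (appendR (appendR c_pq (appendR c_s2 c_s3)) (invW c_pq)) (appendR (invW (appendR c_s2 c_s3)) c_s) (by decide +kernel))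
  qq := (by simpa only [ev_appendR, ev_invW, ev_powW, ev_nil] using qs (appendR (appendR c_p (invW c_pq)) (appendR c_p (invW c_pq))) c_s (by decide +kernel))
  ps := (by simpa only [ev_appendR, ev_invW, ev_powW, ev_nil] using qs (appendR (appendR (appendR (appendR c_p c_s2) (invW c_p)) (invW c_s2)) (appendR (appendR (appendR c_p c_s2) (invW c_p)) (invW c_s2))) c_t (by decide +kernel))
  p's := (by simpa only [ev_appendR, ev_invW, ev_powW, ev_nil] using qs (appendR (appendR (appendR (appendR c_pq c_s2) (invW c_pq)) (invW c_s2)) (appendR (appendR (appendR c_pq c_s2) (invW c_pq)) (invW c_s2))) c_t (by decide +kernel))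

/-- The 3-local configuration. -/
noncomputable def c3 : CJ3 GG where
  a := ev eG ns d_a
  b := ev eG ns d_b
  z := ev eG ns d_z
  σ := ev eG ns d_si
  τ := ev eG ns d_ta
  a3 := (by simpa only [ev_appendR, ev_invW, ev_powW, ev_nil] using qs (powW d_a 3) [] (by decide +kernel))
  b3 := (by simpa only [ev_appendR, ev_invW, ev_powW, ev_nil] using qs (powW d_b 3) [] (by decide +kernel))
  z3 := (by simpa only [ev_appendR, ev_invW, ev_powW, ev_nil] using qs (powW d_z 3) [] (by decide +kernel))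
  z1 := (by simpa only [ev_appendR, ev_invW, ev_powW, ev_nil] using mo.ne_one eG (u := d_z) 0 (by decide +kernel))
  ab := (by simpa only [ev_appendR, ev_invW, ev_powW, ev_nil] using qs (appendR d_a d_b) (appendR d_b d_a) (by decide +kernel))
  az := (by simpa only [ev_appendR, ev_invW, ev_powW, ev_nil] using qs (appendR d_a d_z) (appendR d_z d_a) (by decide +kernel))
  bz := (by simpa only [ev_appendR, ev_invW, ev_powW, ev_nil] using qs (appendR d_b d_z) (appendR d_z d_b) (by decide +kernel))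
  τa := (by simpa only [ev_appendR, ev_invW, ev_powW, ev_nil] using qs (appendR d_a d_ta) (appendR d_ta (appendR d_a d_z)) (by decide +kernel))
  τb := (by simpa only [ev_appendR, ev_invW, ev_powW, ev_nil] using qs (appendR d_b d_ta) (appendR d_ta d_b) (by decide +kernel))
  τz := (by simpa only [ev_appendR, ev_invW, ev_powW, ev_nil] using qs (appendR d_z d_ta) (appendR d_ta d_z) (by decide +kernel))
  σa := (by simpa only [ev_appendR, ev_invW, ev_powW, ev_nil] using qs (appendR d_a d_si) (appendR d_si (appendR d_a d_a)) (by decide +kernel))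
  σz := (by simpa only [ev_appendR, ev_invW, ev_powW, ev_nil] using qs (appendR d_z d_si) (appendR d_si d_b) (by decide +kernel))
  σb := (by simpa only [ev_appendR, ev_invW, ev_powW, ev_nil] using qs (appendR d_b d_si) (appendR d_si (appendR d_b d_z)) (by decide +kernel))

end Cfsg.Agent.Pari.DJ3
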