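import Cfsg.Agent.Pari.Def2
import Cfsg.Agent.Pari.DJ3

set_option autoImplicit false
set_option maxRecDepth 8192

namespace Cfsg.Agent.Pari.DJ3

open Cfsg.Agent.Comp Cfsg.Agent.Spor OutJ3

def e_x : List ℕ := [1, 3, 1, 3, 3, 1, 1, 3, 3, 3, 0, 0, 2, 0]

def e_y : List ℕ := [0, 2, 2, 0, 2, 0, 3, 1, 1, 1, 2, 0, 0, 3, 1]

def e_i : List ℕ := [3, 3, 3, 3, 0, 0, 3, 1, 1, 2, 2, 1, 3, 3, 3, 3, 3, 1]

/-- The subgroup `19:9`. -/
noncomputable def c4 : CJ4 GG where
  x := ev eG ns e_x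
  y := ev eG ns e_y
  i := ev eG ns e_i
  x19 := by
    have : Fact (Nat.Prime 19) := ⟨by norm_num⟩
    exact orderOf_eq_prime (by simpa only [ev_appendR, ev_invW, ev_powW, ev_nil] using qs (powW e_x 19) [] (by decide +kernel))
      (by simpa only [ev_appendR, ev_invW, ev_powW, ev_nil] using mo.ne_one eG (u := e_x) 0 (by decide +kernel))
  y9 := (by simpa only [ev_appendR, ev_invW, ev_powW, ev_nil] using qs (powW e_y 9) [] (by decide +kernel))
  yx := (by simpa only [ev_appendR, ev_invW, ev_powW, ev_nil] using qs (appendR (appendR e_y e_x) (invW e_y)) (powW e_x 4) (by decide +kernel))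
  iy := (by simpa only [ev_appendR, ev_invW, ev_powW, ev_nil] using qs (appendR (appendR e_i e_y) (invW e_i)) (invW e_y) (by decide +kernel))

end Cfsg.Agent.Pari.DJ3
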