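import Cfsg.Agent.Comp.Ev
import Cfsg.Agent.Pari.Cfg
import Cfsg.Agent.Spor.OutONA

set_option autoImplicit false
set_option maxRecDepth 8192

namespace Cfsg.Agent.Pari.DON

open Cfsg.Agent.Comp Cfsg.Agent.Spor OutON

/-- The permutation model. -/
noncomputable abbrev GG : Subgroup (Equiv.Perm ℕ) := gen ns1 ModelON.G_ss0

/-- The identity. -/
noncomputable def eG : GG ≃* GG := MulEquiv.refl _

theorem mo : Mo 131072 17 ns GG 1073741823 := ⟨ctx, kn, gen_le_supp ctx1.ok _⟩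

theorem bas : Bas 131072 GG [0, 85, 119813] := bas_of_exact A_ex.1 A_ex.2 (by decide +kernel)

theorem qs : QS eG ns (eqP E [0, 85, 119813] 1073741823) := mo.qsP hE bas eG

def c_t : List ℕ := [6, 12, 1, 8, 10, 6, 4, 1, 8, 6, 1, 1, 10, 12, 14, 0, 6, 8, 1, 10, 12, 14, 8, 6, 1, 14, 12, 10, 0, 0, 6, 8, 10, 6, 4, 1, 8, 0, 12, 6, 1, 10, 12, 14, 8, 6, 1, 10, 6, 4, 6, 8, 0, 4, 6, 10]

def c_s : List ℕ := [14, 12, 10, 0, 6, 12, 1, 8, 6, 12, 1, 8, 1, 10, 12, 14, 0, 4, 6, 10, 0, 4, 6, 10, 0, 6, 8, 10, 6, 4, 6, 8, 0, 6, 0, 12, 6, 1, 10, 12, 14, 6, 12, 1, 8, 10, 6, 4, 1, 8, 0, 12, 6, 0, 6, 8]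

def c_g : List ℕ := [0, 6, 8, 10, 6, 4, 1, 8, 0, 12, 6, 0, 4, 6, 10, 8, 6, 1, 10, 6, 4, 1, 6, 12, 1, 8, 14, 12, 10, 0, 8, 6, 1, 10, 6, 4, 1, 8, 0, 12, 6, 8, 0, 12, 6, 1, 10, 12, 14, 8, 6, 4, 6, 10, 8, 0, 12, 6]

def c_g1 : List ℕ := [0, 4, 6, 10, 8, 0, 12, 6, 8, 0, 12, 6, 1, 10, 12, 14, 0, 6, 8, 1, 10, 12, 14, 6, 12, 1, 8, 14, 12, 10, 0, 8, 0, 12, 6, 8, 6, 1, 6, 12, 1, 6, 1, 10, 6, 4, 1, 8, 0, 12, 6, 8, 0, 12, 6]

def c_g2 : List ℕ := [1, 10, 12, 14, 8, 6, 4, 6, 10, 8, 6, 4, 6, 10, 0, 4, 6, 10, 6, 12, 1, 8, 1, 10, 12, 14, 8, 6, 4, 6, 10, 6, 12, 1, 8, 1, 10, 12, 14, 6, 12, 1, 8, 0, 4, 6, 10]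

def c_y : List ℕ := [6, 12, 1, 8, 0, 6, 8, 10, 6, 4, 1, 8, 0, 12, 6, 8, 6, 1, 6, 12, 1, 8, 14, 12, 10, 0, 8, 0, 12, 6, 8, 6, 1, 1, 10, 12, 14, 8, 6, 1, 8, 0, 12, 6, 1, 10, 12, 14, 0, 6, 8, 0, 6, 8, 10, 6, 4, 1]

def c_w : List ℕ := [10, 6, 4, 1, 14, 12, 10, 0, 14, 12, 10, 0, 0, 6, 8, 10, 6, 4, 1, 8, 6, 1, 6, 12, 1, 8, 10, 6, 4, 6, 8, 14, 12, 10, 0, 6, 12, 1, 8, 0, 4, 6, 10, 14, 12, 10, 0, 8, 6, 1, 14, 12, 10, 0]

def c_e : List ℕ := [8, 6, 1, 10, 6, 4, 1, 6, 12, 1, 8, 1, 10, 12, 14, 8, 6, 1, 14, 12, 10, 0, 8, 6, 1, 14, 12, 10, 0, 10, 6, 4, 1, 14, 12, 10, 0, 8, 6, 1, 1, 10, 12, 14, 6, 12, 1, 8, 1, 10, 12, 14, 1, 10, 12, 14]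

def c_i : List ℕ := [8, 0, 12, 6, 8, 6, 4, 6, 10, 8, 6, 1, 14, 12, 10, 0, 8, 0, 12, 6, 8, 0, 12, 6, 14, 12, 10, 0, 0, 6, 8, 6, 12, 1, 8, 0, 4, 6, 10, 6, 12, 1, 8, 0, 4, 6, 10, 0, 6, 8, 1, 10, 12, 14, 1, 10, 12, 14]

def c_u1 : List ℕ := [0, 6, 8, 0, 4, 6, 10, 0, 6, 8, 6, 12, 1, 6, 1, 1, 10, 12, 14, 6, 12, 1, 8, 10, 6, 4, 1, 8, 6, 1, 10, 6, 4, 1, 10, 6, 4, 1, 6, 12, 1, 8, 1, 10, 12, 14, 1, 10, 12, 14, 8, 6, 4, 6, 10]

def c_u2 : List ℕ := [6, 12, 1, 8, 10, 6, 4, 1, 10, 6, 4, 1, 8, 0, 12, 6, 1, 10, 12, 14, 10, 6, 4, 1, 8, 6, 1, 14, 12, 10, 0, 8, 0, 12, 6, 1, 10, 12, 14, 8, 6, 1, 14, 12, 10, 0, 6, 12, 1, 8, 0, 6, 8, 0, 6, 8]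

def c_n1 : List ℕ := [0, 6, 8, 14, 12, 10, 0, 8, 6, 1, 8, 6, 1, 6, 12, 1, 8, 1, 10, 12, 14, 8, 0, 12, 6, 0, 4, 6, 10, 6, 12, 1, 8, 0, 4, 6, 10, 8, 0, 12, 6, 8, 6, 1, 14, 12, 10, 0, 8, 6, 1, 10, 6, 4, 1]

def c_n2 : List ℕ := [8, 6, 1, 10, 6, 4, 1, 8, 6, 1, 10, 6, 4, 1, 14, 12, 10, 0, 0, 4, 6, 10, 6, 12, 1, 8, 6, 12, 1, 6, 1, 10, 6, 4, 1, 8, 0, 12, 6, 1, 10, 12, 14, 1, 10, 12, 14, 0, 4, 6, 10, 8, 0, 12, 6, 0, 4, 6, 10]

def c_n3 : List ℕ := [8, 0, 12, 6, 8, 0, 12, 6, 10, 6, 4, 6, 8, 1, 10, 12, 14, 0, 6, 8, 1, 10, 12, 14, 8, 0, 12, 6, 8, 6, 1, 14, 12, 10, 0, 8, 0, 12, 6, 8, 0, 12, 6, 0, 6, 8, 14, 12, 10, 0, 8, 0, 12, 6, 10, 6, 4, 1]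

/-- The configuration. -/
noncomputable def c : CON GG where
  t := ev eG ns c_t
  s := ev eG ns c_s
  g := ev eG ns c_g
  g1 := ev eG ns c_g1
  g2 := ev eG ns c_g2
  y := ev eG ns c_y
  w := ev eG ns c_w
  e := ev eG ns c_e
  i := ev eG ns c_i
  u1 := ev eG ns c_u1
  u2 := ev eG ns c_u2
  n1 := ev eG ns c_n1
  n2 := ev eG ns c_n2
  n3 := ev eG ns c_n3
  b := 1
  k0 := 0
  k1 := 0
  k2 := 0
  k3 := 0
  k4 := 0
  k5 := 0
  k6 := 0
  tt := (by simpa only [ev_appendR, ev_invW, ev_powW, ev_nil] using qs (appendR c_t c_t) [] (by decide +kernel))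
  st := (by simpa only [ev_appendR, ev_invW, ev_powW, ev_nil] using qs (appendR c_s c_t) (appendR c_t c_s) (by decide +kernel))
  o := by
    have : Fact (Nat.Prime 19) := ⟨by norm_num⟩
    rw [orderOf_eq_prime (p := 19) (by simpa only [ev_appendR, ev_invW, ev_powW, ev_nil] using qs (powW (appendR c_t (appendR (appendR c_g c_t) (invW c_g))) 19) [] (by decide +kernel))
      (by simpa only [ev_appendR, ev_invW, ev_powW, ev_nil] using mo.ne_one eG (u := (appendR c_t (appendR (appendR c_g c_t) (invW c_g)))) 0 (by decide +kernel))]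
    norm_num
  c1 := (by simpa only [ev_appendR, ev_invW, ev_powW, ev_nil] using qs (appendR (appendR c_g1 c_t) (invW c_g1)) c_s (by decide +kernel))
  c2 := (by simpa only [ev_appendR, ev_invW, ev_powW, ev_nil] using qs (appendR (appendR c_g2 c_t) (invW c_g2)) (appendR c_s c_t) (by decide +kernel))
  y7 := by
    have : Fact (Nat.Prime 7) := ⟨by norm_num⟩
    exact orderOf_eq_prime (by simpa only [ev_appendR, ev_invW, ev_powW, ev_nil] using qs (powW c_y 7) [] (by decide +kernel))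
      (by simpa only [ev_appendR, ev_invW, ev_powW, ev_nil] using mo.ne_one eG (u := c_y) 0 (by decide +kernel))
  yt := (by simpa only [ev_appendR, ev_invW, ev_powW, ev_nil] using qs (appendR c_y c_t) (appendR c_t c_y) (by decide +kernel))
  wt := (by simpa only [ev_appendR, ev_invW, ev_powW, ev_nil] using qs (appendR c_w c_t) (appendR c_t c_w) (by decide +kernel))
  et := (by simpa only [ev_appendR, ev_invW, ev_powW, ev_nil] using qs (appendR c_e c_t) (appendR c_t c_e) (by decide +kernel))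
  it := (by simpa only [ev_appendR, ev_invW, ev_powW, ev_nil] using qs (appendR c_i c_t) (appendR c_t c_i) (by decide +kernel))
  n1t := (by simpa only [ev_appendR, ev_invW, ev_powW, ev_nil] using qs (appendR c_n1 c_t) (appendR c_t c_n1) (by decide +kernel))
  n2t := (by simpa only [ev_appendR, ev_invW, ev_powW, ev_nil] using qs (appendR c_n2 c_t) (appendR c_t c_n2) (by decide +kernel))
  n3t := (by simpa only [ev_appendR, ev_invW, ev_powW, ev_nil] using qs (appendR c_n3 c_t) (appendR c_t c_n3) (by decide +kernel))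
  wy := (by simpa only [ev_appendR, ev_invW, ev_powW, ev_nil] using qs (appendR (appendR c_w c_y) (invW c_w)) (powW c_y 2) (by decide +kernel))
  iy := (by simpa only [ev_appendR, ev_invW, ev_powW, ev_nil] using qs (appendR (appendR c_i c_y) (invW c_i)) (powW c_y 6) (by decide +kernel))
  u1y := (by simpa only [ev_appendR, ev_invW, ev_powW, ev_nil] using qs (appendR c_u1 c_y) (appendR c_y c_u1) (by decide +kernel))
  u2y := (by simpa only [ev_appendR, ev_invW, ev_powW, ev_nil] using qs (appendR c_u2 c_y) (appendR c_y c_u2) (by decide +kernel))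
  b3 := by simp
  bt := by simp
  bs := by simp
  yb := by simp
  wb := by simp
  eb := by simp
  ib := by simp
  n1b := by simp
  n2b := by simp
  n3b := by simp
  w3 := (by simpa only [ev_appendR, ev_invW, ev_powW, ev_nil, pow_zero, mul_one] using qs (powW c_w 3) [] (by decide +kernel))
  e3 := (by simpa only [ev_appendR, ev_invW, ev_powW, ev_nil, pow_zero, mul_one] using qs (powW c_e 3) [] (by decide +kernel))
  ew := (by simpa only [ev_appendR, ev_invW, ev_powW, ev_nil, pow_zero, mul_one] using qs (appendR c_e c_w) (appendR c_w c_e) (by decide +kernel))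
  m1 := (by simpa only [ev_appendR, ev_invW, ev_powW, ev_nil, pow_zero, mul_one] using qs (appendR (appendR c_n1 c_w) (invW c_n1)) c_e (by decide +kernel))
  m2 := (by simpa only [ev_appendR, ev_invW, ev_powW, ev_nil, pow_zero, mul_one] using qs (appendR (appendR c_n2 c_w) (invW c_n2)) (appendR c_w c_e) (by decide +kernel))
  m3 := (by simpa only [ev_appendR, ev_invW, ev_powW, ev_nil, pow_zero, mul_one] using qs (appendR (appendR c_n3 c_w) (invW c_n3)) (appendR (appendR c_w c_e) c_e) (by decide +kernel))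
  uu := (by simpa only [ev_appendR, ev_invW, ev_powW, ev_nil, pow_zero, mul_one] using qs (appendR (appendR (appendR c_u1 c_u2) (invW c_u1)) (invW c_u2)) c_y (by decide +kernel))

end Cfsg.Agent.Pari.DON
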