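import Cfsg.Agent.Comp.Ev
import Cfsg.Agent.Pari.Cfg
import Cfsg.Agent.Spor.OutRu

set_option autoImplicit false
set_option maxRecDepth 8192

namespace Cfsg.Agent.Pari.DRu

open Cfsg.Agent.Comp Cfsg.Agent.Spor OutRu

/-- The permutation model. -/
noncomputable abbrev GG : Subgroup (Equiv.Perm ℕ) := gen ns [[0], [2]]

/-- The identity. -/
noncomputable def eG : GG ≃* GG := MulEquiv.refl _

theorem mo : Mo 4096 12 ns GG 3 := ⟨ctx, kn_0, gen_le_supp ctx.ok _⟩

theorem bas : Bas 4096 GG [0, 3529, 3473, 2302] := bas_of_exact A_ex.1 A_ex.2.1 (by decide +kernel)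

theorem qs : QS eG ns (eqP E [0, 3529, 3473, 2302] 3) := mo.qsP hE bas eG

def c_t : List ℕ := [1, 3, 0, 2, 0, 3, 0, 2, 1, 1, 1, 2, 2, 0, 0, 2, 1, 2, 2, 0, 3, 3, 1, 2]

def c_v : List ℕ := [1, 2, 0, 3, 3, 0, 2, 1, 2, 0, 2, 2, 2, 0, 0, 2, 0, 0, 0, 3, 0, 3, 0]

def c_y : List ℕ := [3, 1, 1, 3, 0, 0, 2, 2, 2, 2, 0, 3, 1, 2, 1, 3, 0, 3, 1, 2, 2, 0]

def c_g : List ℕ := [0, 3, 3, 3, 0, 0, 0, 0, 0, 0, 2, 1, 2, 0, 2, 1, 3, 0, 2, 2, 0, 2, 1, 1]

/-- The configuration. -/
noncomputable def c : CRu GG where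
  t := ev eG ns c_t
  v := ev eG ns c_v
  y := ev eG ns c_y
  g := ev eG ns c_g
  tt := (by simpa only [ev_appendR, ev_invW, ev_powW, ev_nil] using qs (appendR c_t c_t) [] (by decide +kernel))
  vv := (by simpa only [ev_appendR, ev_invW, ev_powW, ev_nil] using qs (appendR c_v c_v) [] (by decide +kernel))
  v1 := (by simpa only [ev_appendR, ev_invW, ev_powW, ev_nil] using mo.ne_one eG (u := c_v) 0 (by decide +kernel))
  vt := mt mul_inv_eq_one.2 (by simpa only [ev_appendR, ev_invW, ev_powW, ev_nil] using mo.ne_one eG (u := (appendR c_v (invW c_t))) 0 (by decide +kernel))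
  tv := (by simpa only [ev_appendR, ev_invW, ev_powW, ev_nil] using qs (appendR c_v c_t) (appendR c_t c_v) (by decide +kernel))
  y13 := by
    have : Fact (Nat.Prime 13) := ⟨by norm_num⟩
    exact orderOf_eq_prime (by simpa only [ev_appendR, ev_invW, ev_powW, ev_nil] using qs (powW c_y 13) [] (by decide +kernel))
      (by simpa only [ev_appendR, ev_invW, ev_powW, ev_nil] using mo.ne_one eG (u := c_y) 0 (by decide +kernel))
  yt := (by simpa only [ev_appendR, ev_invW, ev_powW, ev_nil] using qs (appendR c_y c_t) (appendR c_t c_y) (by decide +kernel))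
  yv := (by simpa only [ev_appendR, ev_invW, ev_powW, ev_nil] using qs (appendR c_y c_v) (appendR c_v c_y) (by decide +kernel))
  o := by
    have : Fact (Nat.Prime 29) := ⟨by norm_num⟩
    rw [orderOf_eq_prime (p := 29) (by simpa only [ev_appendR, ev_invW, ev_powW, ev_nil] using qs (powW (appendR c_t (appendR (appendR c_g c_t) (invW c_g))) 29) [] (by decide +kernel))
      (by simpa only [ev_appendR, ev_invW, ev_powW, ev_nil] using mo.ne_one eG (u := (appendR c_t (appendR (appendR c_g c_t) (invW c_g)))) 0 (by decide +kernel))]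
    norm_num

end Cfsg.Agent.Pari.DRu
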