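import Cfsg.Agent.Pari.Cfg

/-!
# Definitions for the reduction to central extensions
-/

set_option autoImplicit false

namespace Cfsg.Agent.Pari

open Subgroup

/-- The facts on the Monster used in the reduction. -/
structure MF (G : Type*) [Group G] : Prop where
  card : Nat.card G = 808017424794512875886459904961710757005754368000000000
  rank : ∀ E : Subgroup G, (∀ x ∈ E, x * x = 1) → Nat.card E ≤ 2 ^ 15
  inv : ∀ e : G, orderOf e = 2 →
    Nat.card (centralizer ({e} : Set G)) = 2 ^ 25 * 4157776806543360000 ∨
    (Nat.card (centralizer ({e} : Set G)) = 2 * 4154781481226426191177580544000000 ∧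
      ∀ U : Subgroup G, U ≤ centralizer {e} → (∀ x ∈ U, x * x ∈ zpowers e) → Nat.card U ≤ 2 ^ 15)

/-- No proper subgroup of `X` maps onto `S`. -/
structure Mn {X S : Type*} [Group X] [Group S] (φ : X →* S) : Prop where
  surj : Function.Surjective φ
  min : ∀ H : Subgroup X, H.map φ = ⊤ → H = ⊤

/-- The subgroup `19:9` of `J3` and an element inverting its complement. -/
structure CJ4 (X : Type*) [Group X] where
  (x y i : X)
  x19 : orderOf x = 19
  y9 : y ^ 9 = 1
  yx : y * x * y⁻¹ = x ^ 4
  iy : i * y * i⁻¹ = y⁻¹

end Cfsg.Agent.Pari
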