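import Cfsg.Agent.Pari.Loc

/-!
# The 2-local configuration of `J3`: the case `s ∈ Q`
-/

set_option autoImplicit false

namespace Cfsg.Agent.Pari

open Subgroup Cfsg Cfsg.Spor Cfsg.Agent.TT Cfsg.Agent.Spor Cfsg.Agent.Spor.Leech Cfsg.Agent.LES
  Cfsg.Agent.LES.Co Cfsg.Agent.Mon Cfsg.Agent.XSC.C1 Cfsg.Agent.Mon.LC
open scoped symmDiff

theorem nm_sub_sgn {D : Finset GolayPt} (hD : D ∈ GC) (h : D.card % 8 = 0) (w : leechLattice) :
    nm (w - sgn D hD • w) % 32 = 0 := by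
  have e : nm (w - sgn D hD • w) = ∑ i ∈ D, 4 * (w : GolayPt → ℤ) i ^ 2 := by
    rw [nm, sqNorm, ← Finset.sum_subset (Finset.subset_univ D) fun i _ hi => by
      rw [LL.sub_sgn, if_neg hi]; rfl]
    exact Finset.sum_congr rfl fun i hi => by rw [LL.sub_sgn, if_pos hi]; ring
  rw [e]
  rcases leech_cases w.2 with ⟨c, hc, h1, -⟩ | ⟨c, hc, h1, -⟩
  · have := GC_inter_even hD hc
    rw [LL.sum_mod (s := D ∩ c) (a := 16) (b := 0) Finset.inter_subset_left fun i hi => ?_]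
    · omega
    obtain ⟨k, hk⟩ : ∃ k, (w : GolayPt → ℤ) i = 4 * k + if i ∈ c then 2 else 0 :=
      ⟨_, by rw [← h1 i, Int.mul_ediv_add_emod]⟩
    simp only [hk, Finset.mem_inter, hi, true_and]
    split_ifs <;> ring_nf <;> omega
  · rw [LL.sum_mod (s := ∅) (a := 0) (b := 4) (Finset.empty_subset _) fun i hi => ?_]
    · simp only [Finset.card_empty]; omega
    obtain ⟨k, hk⟩ : ∃ k, (w : GolayPt → ℤ) i = 4 * k + if i ∈ c then 3 else 1 :=
      ⟨_, by rw [← h1 i, Int.mul_ediv_add_emod]⟩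
    simp only [hk, Finset.notMem_empty, if_false]
    split_ifs <;> ring_nf <;> omega

theorem set_cases {D C : Finset GolayPt} (hD : D ∈ GC) (h12 : D.card = 12) (hC : C ∈ GC)
    {r y : leechLattice} {p : GolayPt}
    (hr : ∀ i, (r : GolayPt → ℤ) i % 4 = if i ∈ C then 2 else 0)
    (e : sgn D hD • r - (-r + e8 p) = y + y) : C = ∅ ∨ C = Finset.univ ∨ C = D ∨ C = Dᶜ := by
  have h1 : C ∩ Dᶜ ∈ GC := GC_of_even y.2 fun i => by
    have h2 := congrArg (fun v : leechLattice => (v : GolayPt → ℤ) i) e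
    have h3 := hr i
    simp only [AddSubgroup.coe_sub, AddSubgroup.coe_add, AddSubgroup.coe_neg, Pi.sub_apply,
      Pi.add_apply, Pi.neg_apply, sgn_smul, coe_e8, Pi.single_apply] at h2
    simp only [Finset.mem_inter, Finset.mem_compl]
    by_cases a : i ∈ D <;> by_cases b : i ∈ C <;>
      simp only [a, b, if_true, if_false, not_true, not_false_iff, and_true, and_false] at h2 h3 ⊢ <;>
      split_ifs at h2 <;> omega
  have h2 := GC_symmDiff hC h1
  rcases eq_of_subset_dodecad (GC_compl hD) (card_compl12 h12) h1 Finset.inter_subset_right with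
    a | a <;> rcases eq_of_subset_dodecad hD h12 h2 (fun i => by
      simp only [Finset.mem_symmDiff, Finset.mem_inter, Finset.mem_compl]; tauto) with b | b
  all_goals
    simp only [Finset.ext_iff, Finset.mem_symmDiff, Finset.mem_inter, Finset.mem_compl,
      Finset.notMem_empty, Finset.mem_univ] at a b ⊢
  · exact .inl fun i => by have := a i; have := b i; tauto
  · exact .inr (.inr (.inl fun i => by have := a i; have := b i; tauto))
  · exact .inr (.inr (.inr fun i => by have := a i; have := b i; tauto))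
  · exact .inr (.inl fun i => by have := a i; have := b i; tauto)

variable {G : Type} [Group G] [Finite G] {z : G} {Q : Subgroup G}
  {π : centralizer ({z} : Set G) →* Co1} {ψ : leechLattice → G}

theorem caseA_aux (h : If0 z Q π ψ) {s s2 c : G} {p0 : GolayPt} (hs : Eqv z s (ψ (e8 p0)))
    {P : Subgroup G} (hp : LXPair Q P z s) (hP : Nat.card P = 2 ^ 25) (h2 : s2 ∈ Q)
    {r : leechLattice} (hc : Eqv z c (ψ r)) {C : Finset GolayPt} (hC : C ∈ GC)
    (hr : ∀ i, (r : GolayPt → ℤ) i % 4 = if i ∈ C then 2 else 0) (h0 : C ≠ ∅)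
    (h1 : C ≠ Finset.univ) {p : G} (pP : p ∈ P) (pz : p * z = z * p)
    (cp : p * c * p⁻¹ = c⁻¹ * s)
    (ps : p * s2 * p⁻¹ * s2⁻¹ * (p * s2 * p⁻¹ * s2⁻¹) = z) : Ov π p (sgn C hC) := by
  obtain ⟨g, a⟩ := exists_ov π pz
  obtain ⟨D, hD, rfl⟩ := mem_sgnSub_iff.1
    ((h.mon.preim_eq hp hP hs).le (MonData.mem_preim.2 ⟨⟨p, a.1⟩, pP, a.2⟩))
  have h12 : D.card = 12 := by
    obtain ⟨w, hw⟩ := h.mon.onto s2 h2
    have := mt (h.mon.sq_iff (h.comm_eqv' (u := ⟨p, a.1⟩) a.2 hw)).2 (ps ▸ h.xs.z_ne)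
    have := mt (nm_sub_sgn hD · w) this
    have := GC_card hD
    omega
  have hcQ := h.mon.mem_of_eqv hc
  have h3 : Eqv z c⁻¹ (ψ (-r)) := h.eqv_neg (by
    rcases h.xs.sq hcQ with e | e
    · rwa [inv_eq_of_mul_eq_one_right e]
    · refine Eqv.trans h.mon.z_sq (.inr ?_) hc
      rw [inv_eq_iff_mul_eq_one, ← mul_assoc, e, h.mon.z_sq])
  obtain ⟨y, hy⟩ := h.congr_of_eqv (a.conj_eqv h hc) (cp ▸ h.eqv_mul' h3 hs)
  rcases set_cases hD h12 hC hr hy with e | e | rfl | rfl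
  · exact absurd e h0
  · exact absurd e h1
  · exact a
  · exact negOne_mul_sgn hD ▸ a.neg

theorem caseA_std (h : If0 z Q π ψ) (c : CJ2 G) (ht : c.t = z) {p0 : GolayPt}
    (hs : Eqv z c.s (ψ (e8 p0))) : False := by
  obtain ⟨hQ, hB, hz⟩ := B_e8 h hs (sqNorm_e8 p0)
  obtain ⟨P, hp, hP, -⟩ := h.exists_pair hB hQ hz
  have hf : ∀ {x}, x ∈ Q → c.f * x * c.f⁻¹ ∈ Q := fun hx =>
    (h.conj_mem_Q_iff ⟨c.f, mem_centralizer_singleton_iff.2 (ht ▸ c.ft)⟩).2 hx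
  have h2 : c.s2 ∈ Q := c.h2 ▸ hf hQ
  have h3 : c.s3 ∈ Q := c.h3 ▸ hf h2
  have h4 : c.s4 ∈ Q := c.h4 ▸ hf h3
  obtain ⟨r, hr⟩ := h.mon.onto _ (mul_mem h2 h3)
  have h5 := (h.mon.comm_iff hr hs).1 c.cs
  obtain ⟨C, hC, h6, -⟩ := LL.even_of_zero r.2 (p := p0) (by
    simp only [dotInt, coe_e8, Pi.single_apply, mul_ite, mul_zero, Finset.sum_ite_eq',
      Finset.mem_univ, if_true] at h5
    omega)
  have h7 : c.s2 * c.s3 ∉ P := fun a => (hp.hP.toXS.sq a).elim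
    (fun e => h.xs.z_ne (ht ▸ c.cc ▸ e)) fun e => hz (ht ▸ c.cc ▸ e.symm)
  have h8 : C ≠ ∅ := fun e => h7 (h.mem_of_four hp hP hs hr fun i => by simpa [e] using h6 i)
  have h9 : C ≠ Finset.univ := fun e => h7 (h.mem_of_four hp hP hs
    (h.eqv_congr hr (w := r - (u5 + u5)) (y := u5) (by abel)) fun i => by
      have := h6 i
      simp only [e, Finset.mem_univ, if_true] at this
      simp only [AddSubgroup.coe_sub, AddSubgroup.coe_add, Pi.sub_apply, Pi.add_apply, u5_apply]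
      split_ifs <;> omega)
  have a := caseA_aux h hs hp hP h2 hr hC h6 h8 h9
    (c.hp ▸ (hp.compat _ (ht ▸ c.x't) _).1 (mul_mem h2 h3)) (ht ▸ c.pt) c.cp (ht ▸ c.ps)
  have b := caseA_aux h hs hp hP h2 hr hC h6 h8 h9
    (c.hp' ▸ (hp.compat _ (ht ▸ c.x't) _).1 (mul_mem h2 h4)) (ht ▸ c.p't) c.cp' (ht ▸ c.p's)
  rcases h.xs.sq (((a.mul b.inv).mem_iff h).2 (.inl (mul_inv_cancel _))) with e | e
  · exact h.ne_one_B hB (c.qq ▸ e)
  · exact hz (c.qq ▸ e)

theorem caseA (h : If0 z Q π ψ) (c : CJ2 G) (ht : c.t = z) (hQ : c.s ∈ Q) (hz : c.s ≠ z) : False := by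
  obtain ⟨k, hk⟩ := exists_tw_e8 h hQ (isConj_iff.2 ⟨_, ht ▸ c.x't⟩) hz none
  exact caseA_std (if0_tw h k) c ht hk

end Cfsg.Agent.Pari
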