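import Cfsg.Agent.Pari.Loc
import Cfsg.Agent.Spor.M24Block

/-!
# The 2-local configuration of `J3`: the dodecad case
-/

set_option autoImplicit false

namespace Cfsg.Agent.Pari

open Subgroup Cfsg Cfsg.Spor Cfsg.Agent.TT Cfsg.Agent.Spor Cfsg.Agent.Spor.Leech Cfsg.Agent.LES
  Cfsg.Agent.LES.Co Cfsg.Agent.Mon Cfsg.Agent.XSC.C1 Cfsg.Agent.Mon.LC Cfsg.Agent.Spor.M24C
open scoped symmDiff Pointwise

theorem sq_mul_of_comm {S T : EndL} {n m : ℤ} (hS : S * S = n • S) (hT : T * T = m • T)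
    (h : Commute S T) : S * T * (S * T) = (n * m) • (S * T) := by
  rw [h.symm.mul_mul_mul_comm, hS, hT, smul_mul_smul_comm]

theorem comm_of_sq {H : Type*} [Group H] {a b : H} (ha : a * a = 1) (hb : b * b = 1)
    (h : a * b * (a * b) = 1) : a * b = b * a := by
  rw [← inv_eq_of_mul_eq_one_right h, mul_inv_rev, inv_eq_of_mul_eq_one_right ha,
    inv_eq_of_mul_eq_one_right hb]

theorem four_comm {a b c d : Co0} (ha : a * a = 1) (hb : b * b = 1) (hc : c * c = 1) (hd : d * d = 1)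
    (ab : a * b = b * a) (ac : a * c = c * a) (ad : a * d = d * a) (bc : b * c = c * b)
    (bd : b * d = d * b) (cd : c * d = d * c) :
    (192 + tr a + tr b + tr c + tr d + tr (a * b) + tr (a * c) + tr (a * d) + tr (b * c) + tr (b * d) +
      tr (c * d) + tr (a * b * c) + tr (a * b * d) + tr (a * c * d) + tr (b * c * d) +
      tr (a * b * c * d)) % 128 = 0 := by
  have k1 : ∀ {a : Co0}, a * a = 1 → (1 + rho a) * (1 + rho a) = (2 : ℤ) • (1 + rho a) := fun e => by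
    rw [add_mul, mul_add, mul_add, ← map_mul, e, map_one, two_smul]
    simp only [one_mul, mul_one]
    abel
  have k2 : ∀ {a b : Co0}, a * b = b * a → Commute (1 + rho a) (1 + rho b) := fun e =>
    (Commute.one_left _).add_left ((Commute.one_right _).add_right (Commute.map e rho))
  obtain ⟨k, -, h, -⟩ := idem (n := 16) (by norm_num) (sq_mul_of_comm (sq_mul_of_comm
    (sq_mul_of_comm (k1 ha) (k1 hb) (k2 ab)) (k1 hc) ((k2 ac).mul_left (k2 bc))) (k1 hd)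
    (((k2 ad).mul_left (k2 bd)).mul_left (k2 cd)))
  simp only [add_mul, mul_add, one_mul, mul_one, map_add, ← map_mul, tau_one] at h
  simp only [← tau_rho]
  omega

theorem fpf {σ : M24} {c a : Finset GolayPt} {hc : c ∈ GC} {ha : a ∈ GC}
    (h : mono σ c hc * mono σ c hc = sgn a ha) (h12 : a.card = 12 ∨ a.card = 24) :
    (fixSet σ).card = 0 := by
  obtain ⟨h1, h2⟩ := mono_sq h
  have h3 : fixSet σ ⊆ aᶜ := fun i hi => by
    have h4 : i ∈ σ • c ↔ i ∈ c := by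
      conv_lhs => rw [← mem_fixSet.1 hi]
      exact Finset.smul_mem_smul_finset_iff σ
    rw [h2, Finset.mem_symmDiff] at h4
    rw [Finset.mem_compl]
    tauto
  have h4 := Finset.card_le_card h3
  have h5 : aᶜ.card = 24 - a.card := by rw [Finset.card_compl]; rfl
  by_contra h0
  by_cases e : σ = 1
  · have : (fixSet σ).card = 24 := by simp [e, fixSet]
    omega
  · have h6 := fixSet_mem_octads (orderOf_two_iff.2 ⟨e, h1⟩) h0
    have h7 := h6.2
    rcases eq_of_subset_dodecad (GC_compl ha) (by omega) h6.1 h3 with e | e <;>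
      rw [e] at h7 h0 <;> first | exact h0 rfl | omega

theorem tr_perm (σ : M24) : tr (permHom σ) = 8 * (fixSet σ).card := by
  have := tr_mono' σ GC_empty
  rw [mono_eq, sgn_empty, one_mul] at this
  simpa using this

variable {G : Type} [Group G] {z : G} {Q : Subgroup G}
  {π : centralizer ({z} : Set G) →* Co1} {ψ : leechLattice → G}

theorem Ov.same {x y y' : G} {g g' : Co0} (a : Ov π y g) (b : Ov π y' g') (xz : x * z = z * x)
    (e : x * y * x⁻¹ = y') (h1 : g * g = 1) (h2 : tr g % 64 = 0) :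
    g' * g' = 1 ∧ tr g' % 128 = tr g % 128 := by
  obtain ⟨k, c⟩ := exists_ov π xz
  rcases b.uniq (e ▸ c.conj a) with rfl | rfl
  · rw [conj_mul, h1, tr_conj]; simp
  · rw [negOne_mul_sq, conj_mul, h1, tr_negOne_mul, tr_conj]
    exact ⟨by simp, by omega⟩

theorem caseC_comm (h : If0 z Q π ψ) (c : CJ2 G) (ht : c.t = z) {g : Co0} (a1 : Ov π c.s g)
    (hg : IsC g) (hs : ∀ k, Ov π (c.s2 * c.s3) k → k * k = 1) : False := by
  have fz : c.f * z = z * c.f := ht ▸ c.ft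
  obtain ⟨F, f⟩ := exists_ov π fz
  have a2 := c.h2 ▸ f.conj a1
  have a3 := c.h3 ▸ f.conj a2
  have a4 := c.h4 ▸ f.conj a3
  have a5 := c.h5 ▸ f.conj a4
  have c2 := hg.conj (isConj_iff.2 ⟨F, rfl⟩)
  have c3 := c2.conj (isConj_iff.2 ⟨F, rfl⟩)
  have c4 := c3.conj (isConj_iff.2 ⟨F, rfl⟩)
  have c5 := c4.conj (isConj_iff.2 ⟨F, rfl⟩)
  generalize F * (F * (F * (F * g * F⁻¹) * F⁻¹) * F⁻¹) * F⁻¹ = g5 at a5 c5
  generalize F * (F * (F * g * F⁻¹) * F⁻¹) * F⁻¹ = g4 at a4 c4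
  generalize F * (F * g * F⁻¹) * F⁻¹ = g3 at a3 c3
  generalize F * g * F⁻¹ = g2 at a2 c2
  have q23 := hs _ (a2.mul a3)
  have T : tr (g2 * g3) % 64 = 0 := by
    have := tr_one
    have := tr_negOne_mul 1
    rcases sq_cases q23 with e | e | ⟨-, e | e⟩ | ⟨-, e⟩ <;> rw [e] <;> simp_all
  obtain ⟨q34, t34⟩ := (a2.mul a3).same (a3.mul a4) fz (by rw [← conj_mul, c.h3, c.h4]) q23 T
  obtain ⟨q45, t45⟩ := (a3.mul a4).same (a4.mul a5) fz (by rw [← conj_mul, c.h4, c.h5]) q34 (by omega)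
  obtain ⟨q51, t51⟩ := (a4.mul a5).same (a5.mul a1) fz (by rw [← conj_mul, c.h5, c.h1]) q45 (by omega)
  obtain ⟨q12, t12⟩ := (a5.mul a1).same (a1.mul a2) fz (by rw [← conj_mul, c.h1, c.h2]) q51 (by omega)
  obtain ⟨q24, t24⟩ := (a2.mul a3).same (a2.mul a4) (ht ▸ c.xt) c.xc q23 T
  obtain ⟨q35, t35⟩ := (a2.mul a4).same (a3.mul a5) fz (by rw [← conj_mul, c.h3, c.h5]) q24 (by omega)
  obtain ⟨q41, t41⟩ := (a3.mul a5).same (a4.mul a1) fz (by rw [← conj_mul, c.h4, c.h1]) q35 (by omega)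
  obtain ⟨q52, t52⟩ := (a4.mul a1).same (a5.mul a2) fz (by rw [← conj_mul, c.h5, c.h2]) q41 (by omega)
  obtain ⟨q13, t13⟩ := (a5.mul a2).same (a1.mul a3) fz (by rw [← conj_mul, c.h1, c.h3]) q52 (by omega)
  have e12 := comm_of_sq hg.1 c2.1 q12
  have e13 := comm_of_sq hg.1 c3.1 q13
  have e14 := (comm_of_sq c4.1 hg.1 q41).symm
  have e23 := comm_of_sq c2.1 c3.1 q23
  have e24 := comm_of_sq c2.1 c4.1 q24
  have e34 := comm_of_sq c3.1 c4.1 q34
  have h1 := four_comm hg.1 c2.1 c3.1 c4.1 e12 e13 e14 e23 e24 e34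
  have h2 : ∀ u, tr (g * g2 * g3 * g4 * u) = tr (g5 * u) ∨ tr (g * g2 * g3 * g4 * u) = -tr (g5 * u) := by
    intro u
    rcases ((c.pr ▸ (((a1.mul a2).mul a3).mul a4).mul a5).mem_iff h).1 (ht ▸ h.xs.z_mem) with e | e
    · rw [eq_inv_of_mul_eq_one_left e, inv_eq_of_mul_eq_one_right c5.1]; exact .inl rfl
    · rw [eq_mul_inv_of_mul_eq e, inv_eq_of_mul_eq_one_right c5.1, mul_assoc, tr_negOne_mul]
      exact .inr rfl
  have u0 := h2 1
  have u1 := h2 g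
  have u2 := h2 g2
  have u3 := h2 g3
  have u4 := h2 g4
  rw [mul_one, mul_one, c5.2] at u0
  rw [tr_mul_comm, ← mul_assoc, ← mul_assoc, ← mul_assoc, hg.1, one_mul] at u1
  rw [mul_assoc _ g4, ← e24, ← mul_assoc, mul_assoc _ g3, ← e23, ← mul_assoc, mul_assoc g, c2.1,
    mul_one] at u2
  rw [mul_assoc _ g4, ← e34, ← mul_assoc, mul_assoc _ g3 g3, c3.1, mul_one, tr_mul_comm g5] at u3
  rw [mul_assoc _ g4, c4.1, mul_one, tr_mul_comm g5] at u4
  rw [hg.2, c2.2, c3.2, c4.2, e14] at h1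
  omega

/-- `σ` is the permutation part of a monomial lift of `y`. -/
def Mo (π : centralizer ({z} : Set G) →* Co1) (y : G) (σ : M24) : Prop :=
  ∃ c hc, Ov π y (mono σ c hc)

theorem Mo.mul {x y : G} {σ τ : M24} (a : Mo π x σ) (b : Mo π y τ) : Mo π (x * y) (σ * τ) := by
  obtain ⟨c, hc, a⟩ := a
  obtain ⟨d, hd, b⟩ := b
  exact ⟨_, _, mono_mul_mono σ τ hc hd ▸ a.mul b⟩

theorem Mo.uniq {x : G} {σ τ : M24} (a : Mo π x σ) (b : Mo π x τ) : σ = τ := by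
  obtain ⟨c, hc, a⟩ := a
  obtain ⟨d, hd, b⟩ := b
  rcases a.uniq b with e | e
  · exact (mono_inj e).1
  · exact (mono_inj (e.trans (negOne_mul_mono τ hd))).1

theorem Mo.conj {x y y' : G} {σ τ τ' : M24} (a : Mo π x σ) (b : Mo π y τ) (c : Mo π y' τ')
    (e : x * y * x⁻¹ = y') : σ * τ * σ⁻¹ = τ' :=
  mul_inv_eq_iff_eq_mul.2 ((a.mul b).uniq (mul_inv_eq_iff_eq_mul.1 e ▸ c.mul a))

theorem Ov.mo_one {x : G} {d : Finset GolayPt} {hd : d ∈ GC} (a : Ov π x (sgn d hd)) : Mo π x 1 :=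
  ⟨d, hd, by rwa [mono_eq, map_one, mul_one]⟩

theorem exists_mo {s s' y : G} {d : Finset GolayPt} {hd : d ∈ GC} (h12 : d.card = 12)
    (a : Ov π s (sgn d hd)) (a' : Ov π s' (sgn d hd)) (yz : y * z = z * y) (e : y * s * y⁻¹ = s') :
    ∃ σ, Mo π y σ := by
  obtain ⟨g, b⟩ := exists_ov π yz
  have : g ∈ monoSub := by
    rcases (e ▸ b.conj a).uniq a' with e | e
    · exact mem_monoSub_of_dodecad h12 h12 (mul_inv_eq_iff_eq_mul.1 e)
    · exact mem_monoSub_of_dodecad h12 (card_compl12 h12)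
        (mul_inv_eq_iff_eq_mul.1 (e.trans (negOne_mul_sgn hd)))
  obtain ⟨σ, c, hc, rfl⟩ := mem_monoSub_iff.1 this
  exact ⟨σ, c, hc, b⟩

theorem Mo.fpf {s y : G} {d : Finset GolayPt} {hd : d ∈ GC} (h12 : d.card = 12)
    (a : Ov π s (sgn d hd)) {σ : M24} (b : Mo π y σ) (e : y * y = s) : (fixSet σ).card = 0 := by
  obtain ⟨c, hc, b⟩ := b
  rcases (e ▸ b.mul b).uniq a with e | e
  · exact Pari.fpf e (.inl h12)
  · exact Pari.fpf (e.trans (negOne_mul_sgn hd)) (.inl (card_compl12 h12))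

theorem caseC_std (h : If0 z Q π ψ) (c : CJ2 G) (ht : c.t = z) {d : Finset GolayPt} {hd : d ∈ GC}
    (h12 : d.card = 12) (a : Ov π c.s (sgn d hd)) : False := by
  refine caseC_comm h c ht a ((isC_sgn hd).2 h12) fun k hk => ?_
  have oz : Ov π c.t 1 := ht ▸ Ov.of_mem h h.xs.z_mem
  refine (((c.cc ▸ hk.mul hk).mem_iff h).1 (ht ▸ h.xs.z_mem)).resolve_right fun k2 => ?_
  have a' : Ov π (c.s * c.t) (sgn d hd) := mul_one (sgn d hd) ▸ a.mul oz
  obtain ⟨X, mx⟩ := exists_mo h12 a a (ht ▸ c.xt) (mul_inv_eq_iff_eq_mul.2 c.xs)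
  obtain ⟨T, mt⟩ := exists_mo h12 a a' (ht ▸ c.τt) c.τs
  obtain ⟨A, mv⟩ := exists_mo h12 a a (ht ▸ c.vt) (mul_inv_eq_iff_eq_mul.2 c.vs)
  have cj : ∀ {x y : G} {σ τ : M24}, Mo π x σ → Mo π y τ → ∃ ρ, Mo π (x * y * x⁻¹) ρ := by
    rintro x y σ τ ⟨e, he, a⟩ ⟨f, hf, b⟩
    obtain ⟨ρ, l, hl, e⟩ := mem_monoSub_iff.1
      (mul_mem (mul_mem (mono_mem σ e he) (mono_mem τ f hf)) (inv_mem (mono_mem σ e he)))
    exact ⟨ρ, l, hl, e ▸ a.conj b⟩
  obtain ⟨A', mv'⟩ := c.hv' ▸ cj mx mv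
  obtain ⟨B, mu⟩ := c.hu ▸ cj mt mv
  obtain ⟨B', mu'⟩ := c.hu' ▸ cj mx mu
  have x1 := mx.conj mv mv' c.hv'
  have x2 := mx.conj mv' (mv.mul mv') c.hv''
  have x3 := mx.conj mu mu' c.hu'
  have x4 := mx.conj mu' (mu.mul mu') c.hu''
  have t1 := mt.conj mv mu c.hu
  have one : Mo π 1 1 := (sgn_empty ▸ Ov.one : Ov π 1 (sgn ∅ GC_empty)).mo_one
  have sq : ∀ {σ τ ρ : M24}, σ * τ * σ⁻¹ = ρ → τ * τ = 1 → ρ * ρ = 1 := fun e e' => by
    rw [← e, conj_mul, e', mul_one, mul_inv_cancel]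
  have s1 : A * A = 1 := (mv.mul mv).uniq (c.vv ▸ one)
  have s2 := sq x1 s1
  have s3 := sq t1 s1
  have s4 := sq x3 s3
  have e12 := comm_of_sq s1 s2 (sq x2 s2)
  have e34 := comm_of_sq s3 s4 (sq x4 s4)
  have q13 : A * B * (A * B) = 1 := ((mv.mul mu).mul (mv.mul mu)).uniq (by
    rw [c.vu, c.cc]; exact (sgn_empty ▸ oz : Ov π _ (sgn ∅ GC_empty)).mo_one)
  have q14 : A * B' * (A * B') = 1 := ((mv.mul mu').mul (mv.mul mu')).uniq (c.vu' ▸ a'.mo_one)
  have y1 : X * (A * B) * X⁻¹ = A' * B' := by rw [← conj_mul, x1, x3]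
  have e13 := comm_of_sq s1 s3 q13
  have e14 := comm_of_sq s1 s4 q14
  have e24 := comm_of_sq s2 s4 (sq y1 q13)
  have y2 : X * (A * (B * B')) * X⁻¹ = A' * B := by
    rw [← conj_mul, ← conj_mul, x1, x3, x4, e34, ← mul_assoc B', s4, one_mul]
  have e23 := comm_of_sq s2 s3 (sq y2
    (((mv.mul (mu.mul mu')).mul (mv.mul (mu.mul mu'))).uniq (c.vuu' ▸ a.mo_one)))
  have y3 : X * (A' * B') * X⁻¹ = A * A' * B * B' := by rw [← conj_mul, x2, x4, mul_assoc (A * A')]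
  have y4 : X * (A * B') * X⁻¹ = A' * B * B' := by rw [← conj_mul, x1, x4, mul_assoc]
  have y5 : X * (A' * B * B') * X⁻¹ = A * A' * B := by
    rw [← conj_mul, ← conj_mul, x2, x3, x4, mul_assoc, e34, ← mul_assoc B', s4, one_mul]
  have y6 : X * (A' * B) * X⁻¹ = A * A' * B' := by rw [← conj_mul, x2, x3]
  have f1 : (fixSet (A * B : M24)).card = 0 := by
    obtain ⟨l, hl, b⟩ := c.vu ▸ mv.mul mu
    refine fpf (ha := GC_univ) (hc := hl) ?_ (.inr rfl)
    rcases b.uniq hk with e | e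
    · rw [e, k2, sgn_univ]
    · rw [e, negOne_mul_sq, k2, sgn_univ]
  have f2 := (mv.mul mu').fpf h12 a' c.vu'
  have f3 := (mv.mul (mu.mul mu')).fpf h12 a c.vuu'
  have p : ∀ {σ τ : M24}, σ * τ = τ * σ → permHom σ * permHom τ = permHom τ * permHom σ :=
    fun e => by rw [← map_mul, e, map_mul]
  have q : ∀ {σ : M24}, σ * σ = 1 → permHom σ * permHom σ = 1 := fun e => by
    rw [← map_mul, e, map_one]
  have h1 := four_comm (q s1) (q s2) (q s3) (q s4) (p e12) (p e13) (p e14) (p e23) (p e24) (p e34)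
  simp only [← map_mul, tr_perm] at h1
  rw [← card_fixSet_of_conj y3, ← card_fixSet_of_conj y5, ← card_fixSet_of_conj y6,
    ← card_fixSet_of_conj y4, ← card_fixSet_of_conj y1, ← card_fixSet_of_conj y2,
    ← card_fixSet_of_conj x4, ← card_fixSet_of_conj x3, ← card_fixSet_of_conj t1,
    ← card_fixSet_of_conj x2, ← card_fixSet_of_conj x1, mul_assoc A, f1, f2, f3] at h1
  by_cases e : A = 1
  · have : (fixSet A).card = 24 := by simp [e, fixSet]
    omega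
  · have := fun e' => (fixSet_mem_octads (orderOf_two_iff.2 ⟨e, s1⟩) e').2
    omega

theorem caseC [Finite G] (h : If0 z Q π ψ) (c : CJ2 G) (ht : c.t = z) {g : Co0} (a : Ov π c.s g)
    (hg : IsC g) : False := by
  obtain ⟨k, hk⟩ := isConj_iff.1 (hg.exists_dodecad d0_GC d0_card)
  exact caseC_std (if0_tw h k) c ht d0_card (hk ▸ a.tw k)

end Cfsg.Agent.Pari
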