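import Cfsg.Agent.Pari.JTrio

/-!
# A 2B-pure four-group of octad type and its set `Ω` (part of S2198)
-/

set_option autoImplicit false

namespace Cfsg.Agent.Pari

open Subgroup Cfsg Cfsg.Spor Cfsg.Agent.TT Cfsg.Agent.Spor Cfsg.Agent.Spor.Leech Cfsg.Agent.LES
  Cfsg.Agent.LES.Co Cfsg.Agent.Mon Cfsg.Agent.XSC.C1 Cfsg.Agent.Mon.LC

open scoped symmDiff

theorem four_cases {o : Finset GolayPt} (ho : o ∈ GC) (h8 : o.card = 8) {v : leechLattice}
    (h0 : ∀ i ∈ o, (v : GolayPt → ℤ) i = 0) (h4 : ∀ i, (v : GolayPt → ℤ) i % 4 = 0) :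
    ∃ y : leechLattice, v - (y + sgn o ho • y) = 0 ∨ nm (v - (y + sgn o ho • y)) = 32 := by
  obtain ⟨i, hi⟩ := LL.exists_not_mem (.inl h8)
  obtain ⟨p, hp⟩ := LL.exists_mem (.inl h8)
  set T := Finset.univ.filter fun l => (v : GolayPt → ℤ) l % 8 = 4 with hT
  obtain ⟨-, -, -, h1⟩ := LL.even_of_zero v.2 (p := p) (by rw [h0 p hp]; rfl)
  rw [LL.sum_mod (s := T) (a := 4) (b := 0) (Finset.subset_univ _) fun l _ => by
    have := h4 l
    simp only [hT, Finset.mem_filter, Finset.mem_univ, true_and]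
    split_ifs <;> omega] at h1
  obtain ⟨j, hj, f, hf, e⟩ := L4.exists_point (T := T ∆ {i}) ho h8
    (symmDiff_le_sup.trans (sup_le (fun l hl => Finset.mem_compl.2 fun a => by
      have := (Finset.mem_filter.1 hl).2
      rw [h0 l a] at this
      omega) (by simpa using hi))) (by
      have := L4.par T {i} Finset.univ
      simp only [Finset.inter_univ, Finset.card_singleton] at this
      omega)
  have key : ∀ u : leechLattice, (∀ l ∈ o, (u : GolayPt → ℤ) l = 0) →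
      (∀ l, (u : GolayPt → ℤ) l % 8 = if l ∈ ({i} ∆ {j} : Finset GolayPt) then 4 else 0) →
      ∃ y : leechLattice, v - (y + sgn o ho • y) = u := fun u u0 u1 => by
    obtain ⟨y, hy⟩ := LL.exists_ext hf (.inl rfl) oᶜ (p := p) (by simpa using hp)
      (fun l => ((v : GolayPt → ℤ) l - (u : GolayPt → ℤ) l) / 2) fun l hl => by
        have a := Finset.ext_iff.1 e l
        have b := u1 l
        have c := h4 l
        rw [symmDiff_assoc, Finset.mem_inter, and_iff_left hl, Finset.mem_symmDiff, hT,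
          Finset.mem_filter, and_iff_right (Finset.mem_univ l)] at a
        by_cases k : l ∈ ({i} ∆ {j} : Finset GolayPt) <;> by_cases k' : l ∈ f <;>
          simp only [k, k', if_true, if_false, not_true, not_false_iff, and_true, and_false, true_and,
            false_and, false_or, or_false, true_iff, false_iff] at a b ⊢ <;> omega
    refine ⟨y, Subtype.ext (funext fun l => ?_)⟩
    rw [AddSubgroup.coe_sub, Pi.sub_apply, LL.add_sgn]
    split_ifs with a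
    · rw [h0 l a, u0 l a]; rfl
    · have b := u1 l
      have c := h4 l
      rw [hy l (Finset.mem_compl.2 a)]
      split_ifs at b <;> omega
  by_cases a : i = j
  · exact (key 0 (fun _ _ => rfl) fun l => by simp [a]).imp fun _ => .inl
  · refine (key (MonU.Br.v4 i j true) (fun l hl => ?_) fun l => ?_).imp fun _ e =>
      .inr (by rw [e]; exact MonU.Br.norm_v4 a true)
    · rw [MonU.Br.v4_apply, if_neg (ne_of_mem_of_not_mem hl hi), if_neg (ne_of_mem_of_not_mem hl hj)]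
      rfl
    · rw [MonU.Br.v4_apply]
      by_cases b : l = i <;> by_cases c : l = j <;> simp_all [Finset.mem_symmDiff]

variable {G : Type} [Group G] [Finite G] {z : G} {Q : Subgroup G}
  {π : centralizer ({z} : Set G) →* Co1} {ψ : leechLattice → G}

theorem exists_d_std (h : If0 z Q π ψ) {s : G} {o : Finset GolayPt} {ho : o ∈ GC} (h8 : o.card = 8)
    (a : Ov π s (sgn o ho)) (hs : s ∈ cB z) (hs' : s * z ∈ cB z) :
    ∃ d ∈ Q, d ∈ cA ψ ∧ s * d ∈ cA ψ := by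
  obtain ⟨t, hA, hQ, hg⟩ := h.exists_over ((isA_sgn ho).2 (.inl h8))
  have ht := h.mul_self_A hA
  obtain ⟨k, hkQ, rfl⟩ : ∃ k ∈ Q, s = t * k := ⟨_, (ov_coe.2 hg).coset h a, by group⟩
  have h2 := h.mul_self_B hs
  obtain ⟨v, hk⟩ := h.mon.onto k hkQ
  have h1 := h.comm_eqv' hg hk
  rw [show (t : G) * k * (t : G)⁻¹ * k⁻¹ = k⁻¹ * k⁻¹ by
    rw [inv_eq_of_mul_eq_one_right ht, mul_left_inj, eq_inv_iff_mul_eq_one, mul_assoc, h2]] at h1
  obtain ⟨y₀, h3⟩ := (h.mon.triv _).1 ((h1.symm h.mon.z_sq).trans h.mon.z_sq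
    (eqv_one_iff.2 (h.xs.sq (inv_mem hkQ))))
  obtain ⟨y₁, h4⟩ := LL.exists_proj' ho (.inl h8) h3
  obtain ⟨k₁, hk₁, c₁⟩ := h.conj_step hg ht hk y₁ (v' := v - (y₁ - sgn o ho • y₁)) (x := y₁)
    (by abel)
  obtain ⟨y₂, h5⟩ := LL.fix_cases ho (.inl h8) h4 fun _ => by
    have h6 := h.comm_of_fix hg hA hQ hk₁ ⟨0, Subtype.ext (funext fun i => by
      rw [LL.sub_sgn]
      split_ifs with b
      · rw [h4 i b]; rfl
      · rfl)⟩
    have h7 := XSC.C1.sq_of_isConj c₁ h2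
    rw [mul_assoc, ← mul_assoc k₁, ← h6, mul_assoc, ← mul_assoc, ht, one_mul] at h7
    exact (h.mon.sq_iff hk₁).1 h7
  obtain ⟨y, r, x, e, hr⟩ : ∃ y r x : leechLattice, v + (y - sgn o ho • y) - r = x + x ∧
      (r = 0 ∨ nm r = 32) := by
    rcases h5 with b | b
    · obtain ⟨y₃, h6⟩ := four_cases ho h8 (fun i hi => by
        rw [AddSubgroup.coe_sub, Pi.sub_apply, h4 i hi, LL.add_sgn, if_pos hi]; rfl) b
      exact ⟨y₁ + y₂ + y₃, _, y₁ + y₂ + y₃ - sgn o ho • y₁, by rw [smul_add, smul_add]; abel, h6⟩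
    · exact ⟨y₁ + y₂, _, y₁ + y₂ - sgn o ho • y₁, by rw [smul_add]; abel, .inr b.2⟩
  have h6 := h.eqv_congr (h.eqv_mul' (Eqv.trans h.mon.z_sq (h.xs.inv hkQ) hk) (h.comm_eqv hg hA y)) e
  have h7 : (t : G) * k * (k⁻¹ * (t * ψ y * t * (ψ y)⁻¹)) ∈ cA ψ := by
    rw [mul_assoc, mul_inv_cancel_left, ← mul_assoc, ← mul_assoc, ← mul_assoc, ht, one_mul]
    exact conj_mem_cA hA _
  refine ⟨_, h.mon.mem_of_eqv h6, h.mem_A_of_eqv h6 (hr.resolve_left ?_), h7⟩
  rintro rfl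
  rcases eqv_one_iff.1 (h6.trans h.mon.z_sq ((h.mon.triv 0).2 ⟨0, (add_zero 0).symm⟩)) with b | b <;>
    rw [b] at h7
  · exact h.disj h7 (by rwa [mul_one])
  · exact h.disj h7 hs'

theorem exists_d (h : If0 z Q π ψ) {s : G} {g : Co0} (a : Ov π s g) (hg : IsA g) (hs : s ∈ cB z)
    (hs' : s * z ∈ cB z) : ∃ d ∈ Q, d ∈ cA ψ ∧ s * d ∈ cA ψ := by
  obtain ⟨k, b⟩ := exists_tw_oct a hg
  exact cA_tw h k ▸ exists_d_std (if0_tw h k) o0_card b hs hs'

/-- The set `Ω` of the four-group generated by `t`, `s`. -/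
def Om (z : G) (ψ : leechLattice → G) (t s : G) : Set G :=
  {w | w ∈ cB z ∧ w * t ∈ cA ψ ∧ w * s ∈ cA ψ ∧ w * (s * t) ∈ cA ψ}

theorem A_of_inQ (h : If0 z Q π ψ) {a b x : G} (ha : a ∈ cB z) (hab : a * b ∈ cB z)
    (xa : InQ z Q a x) (xb : InQ z Q b x) (hx : ¬ InQ z Q (a * b) x) : x ∈ cA ψ := by
  obtain ⟨g, hg⟩ := CF.exists_conj_B hab
  refine ((h.cases_inQ xa ((CF.inQ_sq h xa).resolve_right fun e => ?_)).resolve_left ?_).resolve_right
    fun e => hx (h.inQ_symm hab (h.inQ_mul (h.inQ_symm e xa) (h.inQ_symm e xb)))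
  · rcases CF.inQ_sq h xb with e' | e'
    · exact h.ne_one_B ha (e.symm.trans e')
    · exact h.ne_one_B hab (by rw [← e', e, h.mul_self_B ha])
  · rintro rfl
    exact hx ⟨g, hg, by simp⟩

theorem om_aux (h : If0 z Q π ψ) {a b w δ : G} (ha : a ∈ cB z) (hb : b ∈ cB z) (hab : a * b ∈ cB z)
    (hw : w ∈ cB z) (wa : w * a ∈ cA ψ) (wb : w * b ∈ cA ψ) (wab : w * (a * b) ∈ cA ψ)
    (da : InQ z Q a δ) (db : InQ z Q b δ) (dab : InQ z Q (a * b) δ) :
    δ * w * (a * b) ∈ cA ψ ∧ ¬ InQ z Q (a * b) (δ * w * (a * b)) := by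
  have ab := CF.comm_of_B h (h.mul_self_B ha) (h.mul_self_B hb) hab
  have h1 : ¬ InQ z Q (a * b) (δ * w * (a * b)) := fun e => by
    obtain ⟨g, hg, h1⟩ := dab
    have h2 := CF.A_mul h (h.inQ_mul ⟨g, hg, (by simpa [mul_assoc] using inv_mem h1 : g⁻¹ * δ⁻¹ * g ∈ Q)⟩
      e) (by rwa [mul_assoc δ, inv_mul_cancel_left])
    rw [mul_assoc δ, inv_mul_cancel_left, mul_assoc, h.mul_self_B hab, mul_one] at h2
    exact h.disj h2 hw
  refine ⟨A_of_inQ h ha hab ?_ ?_ h1, h1⟩ <;> rw [mul_assoc]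
  · exact h.inQ_mul da (h.inQ_of_mul ha wab (by
      rwa [ab, mul_assoc, mul_assoc, h.mul_self_B ha, mul_one]))
  · exact h.inQ_mul db (h.inQ_of_mul hb wab (by
      rwa [mul_assoc, mul_assoc, h.mul_self_B hb, mul_one]))

theorem om_diff (h : If0 z Q π ψ) {a b w w' : G} (ha : a ∈ cB z) (wb : w * b ∈ cA ψ)
    (wa : w * b * a ∈ cA ψ) (wb' : w' * b ∈ cA ψ) (wa' : w' * b * a ∈ cA ψ) :
    InQ z Q a (w' * w⁻¹) := by
  have := h.inQ_mul (h.inQ_of_mul ha wb' wa') (h.inQ_of_mul ha wb wa)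
  rwa [← h.inv_A wb, mul_inv_rev, mul_assoc, mul_inv_cancel_left] at this

theorem not_dvd_Om (h : If0 z Q π ψ) {s : G} (hs : s ∈ cB z) (hs' : s * z ∈ cB z)
    (hne : (Om z ψ z s).Nonempty) : ¬ 3 ∣ (Om z ψ z s).ncard := by
  obtain ⟨w, hw, w1, w2, w3⟩ := hne
  obtain ⟨g1, h1⟩ := CF.exists_conj_B hs
  obtain ⟨g2, h2⟩ := CF.exists_conj_B hs'
  let D : Subgroup G := Q ⊓ (Q.map (MulAut.conj g1).toMonoidHom ⊓ Q.map (MulAut.conj g2).toMonoidHom)
  have hD : ∀ x, x ∈ D ↔ InQ z Q z x ∧ InQ z Q s x ∧ InQ z Q (s * z) x := fun x => by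
    rw [h.inQ_z, ← h2, ← h1, h.inQ_iff_map, h.inQ_iff_map]; rfl
  have ss := h.mul_self_B hs
  have zz := h.mon.z_sq
  have sz := CF.comm_of_B h ss zz hs'
  have e1 : s * (s * z) = z := by rw [← mul_assoc, ss, one_mul]
  have e2 : s * z * z = s := by rw [mul_assoc, zz, mul_one]
  have e : Om z ψ z s = (· * w) '' D := Set.ext fun x => ⟨fun ⟨_, x1, x2, x3⟩ =>
    ⟨x * w⁻¹, (hD _).2 ⟨om_diff h z_mem_cB w2 (mul_assoc w s z ▸ w3) x2 (mul_assoc x s z ▸ x3),
      om_diff h hs w1 (by rwa [mul_assoc, ← sz]) x1 (by rwa [mul_assoc, ← sz]),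
      om_diff h hs' w2 (by rwa [mul_assoc, e1]) x2 (by rwa [mul_assoc, e1])⟩, by simp⟩, by
    rintro ⟨δ, hδ, rfl⟩
    obtain ⟨d1, d2, d3⟩ := (hD δ).1 hδ
    obtain ⟨a1, a2⟩ := om_aux h hs hs' (e1.symm ▸ z_mem_cB) hw w2 w3 (e1.symm ▸ w1) d2 d3 (e1.symm ▸ d1)
    have a3 := (om_aux h hs' z_mem_cB (e2.symm ▸ hs) hw w3 w1 (e2.symm ▸ w2) d3 d1 (e2.symm ▸ d2)).1
    rw [e1] at a1 a2
    rw [e2] at a3
    refine ⟨?_, a1, a3, (om_aux h hs z_mem_cB hs' hw w2 w1 w3 d2 d1 d3).1⟩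
    have := B_of_A h a1 (comm_mul_left (comm_mul_left (CF.inQ_cent h d1)
      (CF.comm_of_A h (h.mul_self_B hw) zz w1)) rfl) fun e => a2 (h.inQ_z.2 e)
    rwa [mul_assoc, zz, mul_one] at this⟩
  have := card_dvd_of_le (inf_le_left : D ≤ Q)
  rw [e, Set.ncard_image_of_injective _ (mul_left_injective w), ← Nat.card_coe_set_eq]
  rw [h.mon.card] at this
  exact fun d => absurd (Nat.prime_three.dvd_of_dvd_pow (d.trans this)) (by norm_num)

theorem exists_w (h : If0 z Q π ψ) (c : CJ1 G) (ht : c.t = z) {g : Co0} (a : Ov π c.s g)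
    (hg : IsA g) : ∃ w ∈ Om z ψ c.t c.s, c.x * w = w * c.x ∧ c.x' * w = w * c.x' := by
  have hs : c.s ∈ cB z := c.x't ▸ ht ▸ conj_mem_cB z_mem_cB _
  have hs' : c.s * z ∈ cB z := ht ▸ c.x's ▸ conj_mem_cB (ht ▸ hs) _
  obtain ⟨d, dQ, d1, d2⟩ := exists_d h a hg hs hs'
  have ss := h.mul_self_B hs
  have zz := h.mon.z_sq
  have sQ : c.s ∉ Q := fun e => by
    have := tr_one
    have := tr_negOne_mul 1
    rcases (a.mem_iff h).1 e with rfl | rfl <;> rcases hg.2 with e | e <;> simp_all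
  have d3 := CF.A_comm d2
  have hne : (Om z ψ z c.s).Nonempty := ⟨d * c.s * z, B_of_A h d3
    (comm_mul_left (h.xs.z_comm _ dQ) a.cz) fun e => sQ ((mul_mem_cancel_left dQ).1 e),
    by rwa [mul_assoc, zz, mul_one],
    by rw [mul_assoc, ← a.cz, mul_assoc, ← mul_assoc c.s, ss, one_mul]; exact h.mul_z_mem_A d1 dQ,
    by rwa [mul_assoc d, mul_assoc d, h.mul_self_B hs', mul_one]⟩
  obtain ⟨w, hw, e⟩ := exists_fix_conj Nat.prime_three c.pg (ht ▸ not_dvd_Om h hs hs' hne :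
    ¬ 3 ∣ (Om z ψ c.t c.s).ncard) fun r hr => by
      induction hr using closure_induction with
      | mem r hr =>
        rintro w ⟨w0, w1, w2, w3⟩
        have k1 := conj_mem_cA w1 r
        have k2 := conj_mem_cA w2 r
        have k3 := conj_mem_cA w3 r
        rw [← conj_mul] at k1 k2 k3
        rw [← conj_mul (b := r) (a := c.s)] at k3
        rcases hr with rfl | rfl
        · rw [conj_eq_of_comm c.xt] at k1 k3
          rw [conj_eq_of_comm c.xs] at k2 k3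
          exact ⟨conj_mem_cB w0 _, k1, k2, k3⟩
        · rw [c.x't] at k1 k3
          rw [c.x's] at k2 k3
          rw [c.st, mul_assoc c.t, ss, mul_one] at k3
          exact ⟨conj_mem_cB w0 _, k3, k1, k2⟩
      | one => simp
      | mul a b _ _ ha hb => exact fun w hw => by simpa [mul_assoc] using ha _ (hb w hw)
      | inv a _ ha =>
        obtain ⟨n, hn⟩ := (isOfFinOrder_of_finite a).mem_powers_iff_mem_zpowers.2
          (inv_mem (mem_zpowers a))
        rw [← show a ^ n = a⁻¹ from hn]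
        clear hn
        induction n with
        | zero => simp
        | succ n ih => exact fun w hw => by simpa [mul_assoc, pow_succ] using ih _ (ha w hw)
  exact ⟨w, hw, e _ (subset_closure (.inl rfl)), e _ (subset_closure (.inr rfl))⟩

end Cfsg.Agent.Pari
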