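import Cfsg.Agent.Pari.Odd
import Cfsg.Agent.Pari.JOm
import Cfsg.Agent.Pari.JA
import Cfsg.Agent.Pari.JC

/-!
# Neither `J3` nor its triple cover lies in a group of Monster type
-/

set_option autoImplicit false

namespace Cfsg.Agent.Pari

open Subgroup Cfsg Cfsg.Spor Cfsg.Agent.TT Cfsg.Agent.Spor Cfsg.Agent.Spor.Leech Cfsg.Agent.LES
  Cfsg.Agent.LES.Co Cfsg.Agent.Mon Cfsg.Agent.XSC.C1 Cfsg.Agent.Mon.LC

variable {G : Type} [Group G] [Finite G] {z : G} {Q : Subgroup G}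
  {π : centralizer ({z} : Set G) →* Co1} {ψ : leechLattice → G}

theorem oct_aux (h : If0 z Q π ψ) (c : CJ1 G) (hs : c.s ∈ cB z) (ht : c.t ∈ cB z)
    (hw : z ∈ Om z ψ c.t c.s) (xz : c.x * z = z * c.x) (xz' : c.x' * z = z * c.x') : False := by
  have : Fact (Nat.Prime 3) := ⟨Nat.prime_three⟩
  obtain ⟨-, w1, w2, w3⟩ := hw
  have zz := h.mon.z_sq
  have zt := CF.comm_of_A h zz c.tt w1
  have zs := CF.comm_of_A h zz (h.mul_self_B hs) w2
  have x3 : c.x' ^ 3 = 1 := by rw [← c.nx, conj_pow, c.x3, mul_one, mul_inv_cancel]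
  have e : z * c.t * (z * c.s) = c.s * c.t := by
    rw [zt, mul_assoc, ← mul_assoc z, zz, one_mul, c.st]
  have hst : c.s * c.t ∈ cB z := c.x's ▸ conj_mem_cB hs _
  obtain ⟨⟨q, h1, h2, h3, h4⟩, h5⟩ := trio h (b := z * c.s) w1 (comm_mul_left rfl zt.symm)
    (fun e => h.disj (h.mul_z_mem_A w1 e) (by rwa [zt, mul_assoc, zz, mul_one])) (e ▸ hst) x3 xz'
    (by rw [← conj_mul, conj_eq_of_comm xz', c.x't])
    (by rw [← conj_mul, conj_eq_of_comm xz', c.x's, e, comm_mul_left zs.symm zt.symm])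
  rcases three_cases h h1 h2 h3 (orderOf_eq_prime x3 fun e => h.ne_one_B hst (by
    rw [← c.x't, e, one_mul, inv_one, mul_one, c.tt])) xz' h4 with ⟨-, a⟩ | ⟨-, a, a1, a2, a3⟩
  · refine a _ (conj_mem_cA w1 c.n) ?_
    rw [← c.nx, conj_mul, conj_mul, comm_mul_left xz.symm c.xt.symm]
  · exact h5 a a1 a2 a3

theorem caseO (h : If0 z Q π ψ) (c : CJ1 G) (ht : c.t = z) {g : Co0} (a : Ov π c.s g) (hg : IsA g) :
    False := by
  obtain ⟨w, ⟨w0, w1, w2, w3⟩, e1, e2⟩ := exists_w h c ht a hg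
  obtain ⟨k, hk⟩ := isConj_iff.1 (IsConj.symm w0)
  have m : ∀ x, z * (k * x * k⁻¹) = k * (w * x) * k⁻¹ := fun x => by rw [← hk, conj_mul]
  refine oct_aux h (c.map (MulAut.conj k).toMonoidHom (MulAut.conj k).injective)
    (conj_mem_cB (c.x't ▸ ht ▸ conj_mem_cB z_mem_cB _) k) (conj_mem_cB (ht ▸ z_mem_cB) k)
    ⟨z_mem_cB, (m _).symm ▸ conj_mem_cA w1 k, (m _).symm ▸ conj_mem_cA w2 k, ?_⟩
    (hk ▸ If0.conj_comm k e1) (hk ▸ If0.conj_comm k e2)
  change z * (k * c.s * k⁻¹ * (k * c.t * k⁻¹)) ∈ _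
  rw [conj_mul, m]
  exact conj_mem_cA w3 k

theorem noJ3_aux (h : If0 z Q π ψ) {X S : Type*} [Group X] [Finite X] [Group S] {φ : X →* S} {b : X}
    (v : Cov φ b) (c : CJ2 S) (hS : 323 ∣ Nat.card S) (ι : X →* G) (hι : Function.Injective ι)
    (c' : CJ1 X) (e1 : φ c'.t = c.t) (e2 : φ c'.s = c.s) (ht : ι c'.t = z) : False := by
  have : Fact (Nat.Prime 3) := ⟨Nat.prime_three⟩
  let d := c'.map ι hι
  have hs : d.s ∈ cB z := d.x't ▸ (show d.t = z from ht) ▸ conj_mem_cB z_mem_cB _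
  have hz : d.s ≠ z := fun e => h.ne_one_B (d.x's ▸ conj_mem_cB hs d.x') (by
    rw [e, show d.t = z from ht, h.mon.z_sq])
  have bz : ι b * z = z * ι b := by rw [← ht, ← map_mul, ← map_mul, v.cen]
  have bs : ι b * d.s = d.s * ι b := by
    change _ * ι _ = ι _ * _
    rw [← map_mul, ← map_mul, v.cen]
  have b3 : ι b ^ 3 = 1 := by rw [← map_pow, v.cube, map_one]
  have key : ∀ q ∈ Q, q ∈ cB z → q ≠ z → ι b * q = q * ι b →
      ∃ c2 : CJ2 G, c2.t = z ∧ c2.s = d.s := fun q h1 h2 h3 h4 => by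
    have hb : b = 1 := by
      by_contra hb
      have h5 : 323 ∣ Nat.card (centralizer ({ι b} : Set G)) :=
        (hS.trans (card_dvd_of_surjective φ v.surj)).trans (card_dvd_of_injective
          (ι.codRestrict _ fun x => mem_centralizer_singleton_iff.2 (by
            rw [← map_mul, ← map_mul, v.cen])) fun x y e => hι (congrArg Subtype.val e))
      rcases three_cases h h1 h2 h3 (orderOf_eq_prime b3 ((map_ne_one_iff ι hι).2 hb)) bz h4 with
        ⟨e, -⟩ | ⟨e, -⟩ <;> rw [e] at h5 <;> norm_num at h5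
    let e := MulEquiv.ofBijective φ ⟨(injective_iff_map_eq_one φ).2 fun a ha => by
      simpa [hb] using (v.ker a).1 ha, v.surj⟩
    refine ⟨c.map (ι.comp e.symm.toMonoidHom) (hι.comp e.symm.injective), ?_, ?_⟩
    · exact (congrArg ι (e.symm_apply_eq.2 e1.symm)).trans ht
    · exact congrArg ι (e.symm_apply_eq.2 e2.symm)
  by_cases hQ : d.s ∈ Q
  · obtain ⟨c2, a1, a2⟩ := key _ hQ hs hz bs
    exact caseA h c2 a1 (a2 ▸ hQ) (a2 ▸ hz)
  obtain ⟨g, a⟩ := exists_ov π ((show d.t = z from ht) ▸ d.st)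
  rcases a.cases h (h.mul_self_B hs) hQ with e | e
  · exact caseO h d ht a e
  · obtain ⟨q, h1, h2, h3, h4⟩ := fixC h a e
    obtain ⟨c2, a1, a2⟩ := key q h1 h2 h3 (h4 _ 3 (by decide) b3 bz bs)
    exact caseC h c2 a1 (a2 ▸ a) e

theorem noJ3 {lam : G → G → ℝ} (h : If1 z Q π ψ lam) {S : Type*} [Group S] {X : Subgroup G}
    {φ : X →* S} {b : X} (v : Cov φ b) (c : CJ2 S) (hS : 323 ∣ Nat.card S) : False := by
  obtain ⟨c', e1, e2⟩ := CJ1.lift v c.toCJ1 c.ix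
  let d := c'.map X.subtype X.subtype_injective
  obtain ⟨g, hg⟩ := isConj_iff.1 (IsConj.symm (cB_of_ord h d.tt d.o))
  exact noJ3_aux h.toIf0 v c hS ((MulAut.conj g).toMonoidHom.comp X.subtype)
    ((MulAut.conj g).injective.comp X.subtype_injective) c' e1 e2 hg

end Cfsg.Agent.Pari
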