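import Cfsg.Agent.Pari.Loc
import Cfsg.Agent.Mon.CF0
import Cfsg.Agent.MonU.BrA

/-!
# An element of order 3 permuting three 2A-involutions over a trio (part of S2198)
-/

set_option autoImplicit false

namespace Cfsg.Agent.Pari

open Subgroup Cfsg Cfsg.Spor Cfsg.Agent.TT Cfsg.Agent.Spor Cfsg.Agent.Spor.Leech Cfsg.Agent.LES
  Cfsg.Agent.LES.Co Cfsg.Agent.Mon Cfsg.Agent.XSC.C1 Cfsg.Agent.Mon.LC

open scoped symmDiff

variable {G : Type} [Group G] [Finite G] {z : G} {Q : Subgroup G}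
  {π : centralizer ({z} : Set G) →* Co1} {ψ : leechLattice → G}

omit [Finite G] in
theorem exists_tw_oct {u : G} {g : Co0} (a : Ov π u g) (hg : IsA g) :
    ∃ k, Ov (tw π k) u (sgn _ o0_GC) := by
  rcases hg.exists_octad o0_GC o0_card with e | e <;> obtain ⟨k, hk⟩ := isConj_iff.1 e
  · exact ⟨k, hk ▸ a.tw k⟩
  · exact ⟨k, negOne_negOne (sgn _ o0_GC) ▸ (hk ▸ a.tw k).neg⟩

theorem exists_inQ_mem_std (h : If0 z Q π ψ) {u : centralizer ({z} : Set G)} {o : Finset GolayPt}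
    {ho : o ∈ GC} (h8 : o.card = 8) (hg : ((sgn o ho : Co0) : Co1) = π u) (hu : (u : G) ∈ cA ψ)
    {a : G} (ha : a ∈ cA ψ) (haQ : a ∈ Q) (hc : (u : G) * a = a * u) :
    ∃ w ∈ Q, InQ z Q w a ∧ InQ z Q w u := by
  obtain ⟨r, hr, h32⟩ := (h.mem_A_iff haQ).1 ha
  have hpm := h.pm_of_comm hg hr h32 hc
  obtain ⟨y, h1, h2, h3⟩ := LL.exists_y_sgn ho h8 h32 hpm
  have h4 := h.comm_eqv hg hu y
  have h5 : dotInt ((sgn o ho • r : leechLattice) : GolayPt → ℤ) (y : GolayPt → ℤ) =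
      dotInt (r : GolayPt → ℤ) ((sgn o ho • y : leechLattice) : GolayPt → ℤ) := by
    rw [← dotInt_smul (sgn o ho), ← mul_smul, XSC.C1.sgn_sq, one_smul]
  have hw := h.mem_B_of_eqv h4 (by rw [AddSubgroup.coe_sub, sqNorm_sub, sqNorm_smul]; omega)
  refine ⟨_, h.mon.mem_of_eqv h4, h.inQ_of_mul hw ha ?_, h.inQ_of_mul hw hu ?_⟩
  · rcases hpm with e | e <;> rw [e] at h5
    · refine h.mem_A_of_eqv (h.eqv_congr (h.eqv_mul' hr h4) (w := r - (y + sgn o ho • y)) (y := y)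
        (by abel)) ?_
      rw [AddSubgroup.coe_sub, AddSubgroup.coe_add, sqNorm_sub, sqNorm_add, sqNorm_smul,
        dotInt_add_right]
      omega
    · refine h.mem_A_of_eqv (h.eqv_congr (h.eqv_mul' hr h4) (w := r - (y - sgn o ho • y))
        (y := y - sgn o ho • y) (by abel)) ?_
      rw [AddSubgroup.coe_neg, dotInt_neg_left] at h5
      rw [AddSubgroup.coe_sub, AddSubgroup.coe_sub, sqNorm_sub, sqNorm_sub, sqNorm_smul,
        dotInt_sub_right]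
      omega
  · rw [← mul_assoc, ← mul_assoc, ← mul_assoc, h.mul_self_A hu, one_mul]
    exact conj_mem_cA hu _

theorem exists_inQ_mem (h : If0 z Q π ψ) {u a : G} (hu : u ∈ cA ψ) (uz : u * z = z * u) (huQ : u ∉ Q)
    (ha : a ∈ cA ψ) (haQ : a ∈ Q) (hc : u * a = a * u) : ∃ w ∈ Q, InQ z Q w a ∧ InQ z Q w u := by
  obtain ⟨g, b⟩ := exists_ov π uz
  obtain ⟨k, b⟩ := exists_tw_oct b (b.isA h hu huQ)
  exact exists_inQ_mem_std (if0_tw h k) (u := ⟨u, b.1⟩) o0_card b.2 ((cA_tw h k).ge hu)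
    ((cA_tw h k).ge ha) haQ hc

theorem exists_frame (h : If0 z Q π ψ) {a b : G} (ha : a ∈ cA ψ) (hb : b ∈ cA ψ)
    (hc : a * b * z ∈ cA ψ) (hab : a * b ∈ cB z) (az : a * z = z * a) (haQ : a ∉ Q) :
    ∃ q ∈ Q, q ∈ cB z ∧ q ≠ z ∧ InQ z Q q a ∧ InQ z Q q b := by
  have e1 : a * (a * b) = b := by rw [← mul_assoc, h.mul_self_A ha, one_mul]
  have e0 := CF.comm_of_A h (h.mul_self_B hab) h.mon.z_sq hc
  have e2 : a * b * z * (a * b) = z := by rw [mul_assoc, ← e0, ← mul_assoc, h.mul_self_B hab, one_mul]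
  have e3 : a * b * z * a = a * (a * b * z) := by
    rw [mul_assoc, ← az, ← mul_assoc, mul_assoc a, ← CF.comm_of_B h (h.mul_self_A ha)
      (h.mul_self_A hb) hab, mul_assoc]
  have h1 := h.inQ_of_mul hab ha (e1.symm ▸ hb)
  have h2 : ¬ InQ z Q (a * b) (a * b * z) := fun e => h.disj (e2 ▸ CF.A_mul h e hc) z_mem_cB
  obtain ⟨g, hg⟩ := CF.exists_conj_B hab
  rw [← hg, h.inQ_iff] at h1
  nth_rw 1 [← hg] at h2
  rw [h.inQ_iff] at h2
  obtain ⟨q, h3, h4, h5⟩ := exists_inQ_mem h (CF.A_conj' hc g) (by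
    rw [← mul_left_inj g⁻¹, ← mul_right_inj g]
    simp only [mul_assoc, mul_inv_cancel_left, mul_inv_cancel, mul_one]
    rw [← mul_assoc g, ← mul_assoc g, ← mul_assoc (g * z), hg, ← mul_assoc, ← mul_assoc, e2,
      ← mul_assoc a b z, ← mul_assoc, h.mul_self_B hab, one_mul]) h2 (CF.A_conj' ha g) h1 (by
    simpa only [mul_assoc, mul_inv_cancel_left] using congrArg (g⁻¹ * · * g) e3)
  have h6 := h4.conj g
  have h7 := h5.conj g
  have h8 : InQ z Q (g * q * g⁻¹) (a * b) := hg ▸ (h.inQ_symm h4.mem_cB (h.inQ_z.2 h3)).conj g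
  simp only [mul_assoc, mul_inv_cancel_left, mul_inv_cancel, mul_one] at h6 h7 h8
  have h9 := h.inQ_mul h7 h8
  rw [← mul_assoc a b z, e2] at h9
  exact ⟨_, h.inQ_z.1 (h.inQ_symm z_mem_cB h9), h6.mem_cB, fun e => haQ (h.inQ_z.1 (e ▸ h6)), h6,
    e1 ▸ h.inQ_mul h6 h8⟩

theorem B_of_A (h : If0 z Q π ψ) {b : G} (hb : b ∈ cA ψ) (bz : b * z = z * b) (hQ : b ∉ Q) :
    b * z ∈ cB z :=
  (h.two_classes (M24C.orderOf_two_iff.2 ⟨fun e =>
    hQ ((mul_mem_cancel_right h.xs.z_mem).1 (by rw [show b * z = 1 from e]; exact one_mem Q)),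
    by rw [mul_assoc, ← mul_assoc z, ← bz, mul_assoc, h.mon.z_sq, mul_one, h.mul_self_A hb]⟩)).resolve_left
    fun e => hQ (h.inQ_z.1 (h.inQ_of_mul z_mem_cB hb e))

theorem exists_k (h : If0 z Q π ψ) {a : G} {α : Co0} (oa : Ov π a α) (hα : IsA8 α) (ha : a ∈ cA ψ)
    {r : leechLattice} (e : α • r = -r) : ∃ k, Eqv z k (ψ r) ∧ a * k ∈ cA ψ := by
  obtain ⟨v, rfl⟩ := hα.exists_sub e
  refine ⟨_, h.comm_eqv (u := ⟨a, oa.1⟩) oa.2 ha v, ?_⟩
  rw [← mul_assoc, ← mul_assoc, ← mul_assoc, h.mul_self_A ha, one_mul]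
  exact conj_mem_cA ha _

theorem neg_of_k (h : If0 z Q π ψ) {c k : G} {γ : Co0} (oc : Ov π c γ) (hγ : IsA8 γ) (hc : c ∈ cA ψ)
    (hQ : c ∉ Q) {r : leechLattice} (hr : nm r = 32) (hk : Eqv z k (ψ r)) (e : c * k ∈ cA ψ) :
    γ • r = -r := by
  obtain ⟨v, rfl⟩ := (h.mul_mem_iff (u := ⟨c, oc.1⟩) oc.2 hc hQ (h.mon.mem_of_eqv hk)).1 e
  obtain ⟨w, hw⟩ := h.congr_of_eqv hk (h.comm_eqv (u := ⟨c, oc.1⟩) oc.2 hc v)
  exact hγ.neg_of_congr hr (sub_eq_iff_eq_add'.1 hw)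

theorem not_neg_both (h : If0 z Q π ψ) {a b : G} {α β : Co0} (oa : Ov π a α) (ob : Ov π b β)
    (hα : IsA8 α) (hβ : IsA8 β) (hγ : IsA8 (α * β)) (ha : a ∈ cA ψ) (hb : b ∈ cA ψ)
    (hc : a * b * z ∈ cA ψ) (hab : a * b ∈ cB z) (hbQ : b ∉ Q) (hcQ : a * b * z ∉ Q)
    {r : leechLattice} (hr : nm r = 32) (e1 : α • r = -r) (e2 : β • r = -r) : False := by
  obtain ⟨k, k1, k2⟩ := exists_k h oa hα ha e1
  obtain ⟨l, l1, l2⟩ := exists_k h ob hβ hb e2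
  have oc : Ov π (a * b * z) (α * β) := mul_one (α * β) ▸ (oa.mul ob).mul (Ov.of_mem h h.xs.z_mem)
  have hk := h.mem_A_of_eqv k1 hr
  have aa := h.mul_self_A ha
  have ak := CF.comm_of_A h aa (h.mul_self_A hk) k2
  have kz := h.xs.z_comm _ (h.mon.mem_of_eqv k1)
  have key : α • β • r ≠ -r := fun e => by
    rw [e2, smul_neg, e1, neg_neg] at e
    exact CF.ne_neg_of_short hr e
  rw [← mul_smul] at key
  rcases (l1.trans h.mon.z_sq (k1.symm h.mon.z_sq) : Eqv z l k) with rfl | rfl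
  · have h1 := h.inQ_mul (h.inQ_of_mul hab ha (by rwa [← mul_assoc, aa, one_mul]))
      (h.inQ_of_mul hab k2 (by
        rw [ak, mul_assoc, ← mul_assoc a, aa, one_mul]; exact CF.A_comm l2))
    rw [← mul_assoc, aa, one_mul] at h1
    refine key (neg_of_k h oc hγ hc hcQ hr (Eqv.trans h.mon.z_sq (.inr rfl) k1) ?_)
    rw [kz, mul_assoc, ← mul_assoc z, h.mon.z_sq, one_mul]
    exact CF.A_comm (CF.A_mul h h1 hk)
  · have hw := B_of_A h hb ob.cz hbQ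
    have h1 := CF.A_mul h (h.inQ_mul (h.inQ_of_mul hw ha (mul_assoc a b z ▸ hc))
      (h.inQ_of_mul hw hk (CF.A_comm (by rwa [mul_assoc, ← kz])))) k2
    refine key (neg_of_k h oc hγ hc hcQ hr k1 (CF.A_comm ?_))
    rwa [mul_assoc a, ← mul_assoc, ← ak]

theorem trio_lat {α β ξ : Co0} (hs : ∀ r : leechLattice, α • r + β • r - (α * β) • r = r)
    (x3 : ξ ^ 3 = 1) (h1 : ξ * α * ξ⁻¹ = β) (h2 : ξ * β * ξ⁻¹ = negOne * (α * β)) {v : leechLattice}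
    (hv : nm v = 32) (e1 : α • v = -v) (e2 : β • v = v) :
    (∀ r, nm r = 32 → ξ • r ≠ r) ∧ ∃ φ, nm φ = 96 ∧ ξ • φ = φ := by
  have x3' : ∀ r : leechLattice, ξ • ξ • ξ • r = r := fun r => by
    rw [← mul_smul, ← mul_smul, ← pow_three', x3, one_smul]
  refine ⟨fun r hr e => ?_, v + ξ • v + ξ • ξ • v, ?_, by rw [smul_add, smul_add, x3']; abel⟩
  · have a1 := dt_smul ξ r (α • r)
    have a2 := dt_smul ξ r (β • r)
    rw [← conj_smul, h1, e] at a1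
    rw [← conj_smul, h2, e, mul_smul, negOne_smul, dt_neg_right] at a2
    have a3 := congrArg (dt r) (hs r)
    rw [dt_sub_right, dt_add_right, dt_self] at a3
    omega
  · have a1 := dt_smul β v (ξ • v)
    rw [e2, ← h1, conj_smul, e1, smul_neg, dt_neg_right] at a1
    have a2 := dt_smul ξ v (ξ • v)
    have a3 := dt_smul ξ (ξ • v) (ξ • ξ • v)
    rw [x3', dt_comm] at a3
    rw [nm_add, nm_add, dt_add_left, nm_smul, nm_smul, nm_smul]
    omega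

theorem trio_std (h : If0 z Q π ψ) {a b x : G} (ha : a ∈ cA ψ) (haQ : a ∉ Q)
    (hab : a * b ∈ cB z) (x3 : x ^ 3 = 1) (xz : x * z = z * x) (xa : x * a * x⁻¹ = b)
    (xb : x * b * x⁻¹ = a * b * z) {A B : Finset GolayPt} {hA : A ∈ GC} {hB : B ∈ GC}
    (A8 : A.card = 8) (B8 : B.card = 8) (oa : Ov π a (sgn A hA)) (ob : Ov π b (sgn B hB)) :
    (∃ q ∈ Q, q ∈ cB z ∧ q ≠ z ∧ x * q = q * x) ∧ ∀ d ∈ Q, d ∈ cA ψ → d * x ≠ x * d := by
  have cq : ∀ {y}, x * y * x⁻¹ ∈ Q → y ∈ Q :=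
    (h.conj_mem_Q_iff ⟨x, mem_centralizer_singleton_iff.2 xz⟩).1
  have hb := xa ▸ conj_mem_cA ha x
  have hc := xb ▸ conj_mem_cA hb x
  have hbQ : b ∉ Q := fun e => haQ (cq (xa ▸ e))
  have hcQ : a * b * z ∉ Q := fun e => hbQ (cq (xb ▸ e))
  have oc : Ov π (a * b * z) (sgn A hA * sgn B hB) :=
    mul_one (sgn A hA * sgn B hB) ▸ (oa.mul ob).mul (Ov.of_mem h h.xs.z_mem)
  have hα := (isA8_sgn hA).2 A8
  have hβ := (isA8_sgn hB).2 B8
  have h1 := (LL.card_symmDiff_GC hA hB).1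
  have h2 := (isA_sgn _).1 (sgn_mul_sgn hA hB ▸ oc.isA h hc hcQ)
  have sup : ∀ {i j p : GolayPt} {D : Finset GolayPt}, i ∈ D → j ∈ D → p ∉ D →
      (MonU.Br.v4 i j true : GolayPt → ℤ) p = 0 := fun hi hj hp => by
    rw [MonU.Br.v4_apply, if_neg (ne_of_mem_of_not_mem hi hp).symm,
      if_neg (ne_of_mem_of_not_mem hj hp).symm]; rfl
  have h3 : (A ∩ B).card = 0 := by
    by_contra h0
    obtain ⟨i, hi, j, hj, hij⟩ := Finset.one_lt_card.1 (show 1 < (A ∩ B).card by omega)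
    rw [Finset.mem_inter] at hi hj
    exact not_neg_both h oa ob hα hβ (sgn_mul_sgn hA hB ▸ (isA8_sgn _).2 (by omega)) ha hb hc hab hbQ
      hcQ (MonU.Br.norm_v4 hij true) (sgn_neg_iff.2 fun p hp => sup hi.1 hj.1 hp)
      (sgn_neg_iff.2 fun p hp => sup hi.2 hj.2 hp)
  have h4 : ∀ p ∈ A, p ∉ B := fun p a b =>
    Finset.notMem_empty p (Finset.card_eq_zero.1 h3 ▸ Finset.mem_inter.2 ⟨a, b⟩)
  have hγ : IsA8 (negOne * (sgn A hA * sgn B hB)) := by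
    rw [sgn_mul_sgn, negOne_mul_sgn, isA8_sgn, Finset.card_compl, show Fintype.card GolayPt = 24 from rfl]
    omega
  obtain ⟨ξ, ox⟩ := exists_ov π xz
  obtain ⟨ξ, ox, ξ3⟩ := ox.odd (by decide) x3
  obtain ⟨i, hi, j, hj, hij⟩ := Finset.one_lt_card.1 (show 1 < A.card by omega)
  obtain ⟨h5, φ, h6, h7⟩ := trio_lat (α := sgn A hA) (β := sgn B hB) (fun r => Subtype.ext (funext
      fun p => by
      have := h4 p
      simp only [mul_smul, AddSubgroup.coe_sub, AddSubgroup.coe_add, Pi.sub_apply, Pi.add_apply,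
        sgn_smul]
      by_cases a : p ∈ A <;> by_cases b : p ∈ B
      · exact absurd b (this a)
      all_goals simp [a, b])) ξ3
    (((xa ▸ ox.conj oa).uniq ob).resolve_right fun e => hβ.not_neg (e ▸ hα.conj ξ))
    (((xb ▸ ox.conj ob).uniq oc.neg).resolve_right fun e => hγ.not_neg (e ▸ hβ.conj ξ))
    (MonU.Br.norm_v4 hij true) (sgn_neg_iff.2 fun p hp => sup hi hj hp)
    (sgn_fix_iff.2 fun p hp => sup hi hj fun a => h4 p a hp)
  have h8 : ∀ d ∈ Q, d ∈ cA ψ → d * x ≠ x * d := fun d hQ hd e => by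
    obtain ⟨r, h1, h2⟩ := (h.mem_A_iff hQ).1 hd
    exact h5 r h2 (ox.fix_short h (by decide) ξ3 h2 h1 e.symm)
  have h9 := ox.comm_of_congr h (by decide) x3 (Eqv.refl _ (ψ φ)) (w := 0) (by simp [h7])
  have h10 : ¬ Eqv z (ψ φ) 1 := fun e => by
    obtain ⟨w, rfl⟩ := (h.mon.triv φ).1 e
    rcases nm_two w with rfl | e
    · rw [add_zero] at h6
      exact absurd h6 (by decide)
    · omega
  rw [eqv_one_iff, not_or] at h10
  exact ⟨⟨_, h.mon.mem φ, ((h.cases_Q (h.mon.mem φ) ((h.mon.sq_iff (Eqv.refl _ _)).2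
    (by rw [show sqNorm _ = _ from h6]; rfl))).resolve_left h10.1).resolve_left
      fun e => h8 _ (h.mon.mem φ) e h9.symm, h10.2, h9⟩, h8⟩

theorem exists_oct (h : If0 z Q π ψ) {q a : G} {p : GolayPt} (hq : Eqv z q (ψ (e8 p)))
    (ha : a ∈ cA ψ) (az : a * z = z * a) (haQ : a ∉ Q) (hi : InQ z Q q a) :
    ∃ A hA, A.card = 8 ∧ Ov π a (sgn A hA) := by
  obtain ⟨h1, h2, h3⟩ := B_e8 h hq (sqNorm_e8 p)
  obtain ⟨P, hp, hP, hin⟩ := h.exists_pair h2 h1 h3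
  obtain ⟨g, o⟩ := exists_ov π az
  obtain ⟨D, hD, rfl⟩ := mem_sgnSub_iff.1
    ((h.mon.preim_eq hp hP hq).le (MonData.mem_preim.2 ⟨⟨a, o.1⟩, (hin a).1 hi, o.2⟩))
  rcases isA8_or (o.isA h ha haQ) with e | e
  · exact ⟨D, hD, (isA8_sgn _).1 e, o⟩
  · rw [negOne_mul_sgn] at e
    exact ⟨_, _, (isA8_sgn _).1 e, negOne_mul_sgn hD ▸ o.neg⟩

theorem trio (h : If0 z Q π ψ) {a b x : G} (ha : a ∈ cA ψ) (az : a * z = z * a) (haQ : a ∉ Q)
    (hab : a * b ∈ cB z) (x3 : x ^ 3 = 1) (xz : x * z = z * x) (xa : x * a * x⁻¹ = b)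
    (xb : x * b * x⁻¹ = a * b * z) :
    (∃ q ∈ Q, q ∈ cB z ∧ q ≠ z ∧ x * q = q * x) ∧ ∀ d ∈ Q, d ∈ cA ψ → d * x ≠ x * d := by
  have hb := xa ▸ conj_mem_cA ha x
  obtain ⟨q, h1, h2, h3, h4, h5⟩ := exists_frame h ha hb (xb ▸ conj_mem_cA hb x) hab az haQ
  obtain ⟨k, hk⟩ := exists_tw_e8 h h1 h2 h3 none
  have h' := if0_tw h k
  have e := cA_tw h k
  obtain ⟨A, hA, A8, oa⟩ := exists_oct h' hk (e.ge ha) az haQ h4
  obtain ⟨B, hB, B8, ob⟩ := exists_oct h' hk (e.ge hb)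
    (xa ▸ comm_mul_left (comm_mul_left xz az) (comm_inv_left xz))
    (fun e => haQ ((h.conj_mem_Q_iff ⟨x, mem_centralizer_singleton_iff.2 xz⟩).1 (xa ▸ e))) h5
  exact e ▸ trio_std h' (e.ge ha) haQ hab x3 xz xa xb A8 B8 oa ob

end Cfsg.Agent.Pari
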