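import Cfsg.Agent.Mon.LCnt

/-!
# Integral traces on the Leech lattice
-/

set_option autoImplicit false

namespace Cfsg.Agent.Pari

open Cfsg Cfsg.Spor Cfsg.Agent.Spor Cfsg.Agent.Spor.Leech Cfsg.Agent.XSC.C1 Cfsg.Agent.LES.Co

instance finLa : Module.Finite ℤ leechLattice := leech_finite

instance freeLa : Module.Free ℤ leechLattice := Module.free_of_finite_type_torsion_free'

/-- Endomorphisms of the Leech lattice. -/
abbrev EndL : Type := Module.End ℤ leechLattice

/-- The natural representation. -/
noncomputable def rho : Co0 →* EndL := DistribMulAction.toModuleEnd ℤ leechLattice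

theorem rho_apply (g : Co0) (v : leechLattice) : rho g v = g • v := rfl

/-- The trace. -/
noncomputable def tau : EndL →ₗ[ℤ] ℤ := LinearMap.trace ℤ leechLattice

theorem tau_rho (g : Co0) : 8 * tau (rho g) = tr g := by
  have e : (8 : ℤ) • rho g = ∑ k, LinearMap.smulRight
      (((Pi.evalAddMonoidHom (fun _ => ℤ) k).comp leechLattice.subtype).toIntLinearMap) (g • e8 k) := by
    refine LinearMap.ext fun v => ?_
    rw [LinearMap.smul_apply, ← map_smul, eight_smul_eq, map_sum, LinearMap.sum_apply]
    exact Finset.sum_congr rfl fun k _ => by rw [map_smul]; rfl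
  rw [← smul_eq_mul, ← map_smul, e, map_sum]
  exact Finset.sum_congr rfl fun k _ => LinearMap.trace_smulRight _ _

theorem tr_one : tr 1 = 192 := by
  rw [← sgn_empty, tr_sgn]; simp

theorem tau_one : tau 1 = 24 := by
  have := tau_rho 1
  rw [map_one, tr_one] at this
  omega

theorem tau_mul_comm (a b : EndL) : tau (a * b) = tau (b * a) := LinearMap.trace_mul_comm ℤ a b

theorem idem {S : EndL} {n : ℕ} (hn : 0 < n) (h : S * S = (n : ℤ) • S) :
    ∃ k : ℕ, k ≤ 24 ∧ tau S = n * k ∧ (k = 0 → S = 0) := by
  classical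
  let b := Module.finBasis ℤ leechLattice
  have h24 : Module.finrank ℤ leechLattice = 24 := by
    have := tau_one
    rw [tau, LinearMap.trace_one] at this
    exact_mod_cast this
  let M : Matrix _ _ ℚ := (LinearMap.toMatrix b b S).map (Int.castRingHom ℚ)
  have hM : M * M = (n : ℚ) • M := by
    rw [← Matrix.map_mul, ← LinearMap.toMatrix_mul, h, map_smul]
    ext i j
    simp only [M, Matrix.map_apply, Matrix.smul_apply, smul_eq_mul, map_mul, eq_intCast,
      Int.cast_natCast]
  have hn' : (n : ℚ) ≠ 0 := by exact_mod_cast hn.ne'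
  let P := Matrix.toLin' ((n : ℚ)⁻¹ • M)
  have hP : IsIdempotentElem P := by
    change P * P = P
    rw [Module.End.mul_eq_comp, ← Matrix.toLin'_mul, Matrix.smul_mul, Matrix.mul_smul, hM,
      inv_smul_smul₀ hn']
  have ht := ((LinearMap.isProj_range_iff_isIdempotentElem P).2 hP).trace
  have ht' : LinearMap.trace ℚ _ P = (n : ℚ)⁻¹ * (tau S : ℚ) := by
    rw [Matrix.trace_toLin'_eq, Matrix.trace_smul, tau, LinearMap.trace_eq_matrix_trace ℤ b,
      smul_eq_mul]
    congr 1
    simp [M, Matrix.trace]
  refine ⟨Module.finrank ℚ (LinearMap.range P), ?_, ?_, fun h0 => ?_⟩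
  · refine (Submodule.finrank_le _).trans ?_
    rw [Module.finrank_fin_fun, h24]
  · rw [ht', inv_mul_eq_iff_eq_mul₀ hn'] at ht
    exact_mod_cast ht
  · rw [Submodule.finrank_eq_zero, LinearMap.range_eq_bot, map_eq_zero_iff _ (LinearEquiv.injective _),
      smul_eq_zero, or_iff_right (inv_ne_zero hn')] at h0
    refine (LinearMap.toMatrix b b).injective ?_
    rw [map_zero]
    ext i j
    simpa [M] using congrFun (congrFun h0 i) j

end Cfsg.Agent.Pari
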