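import Cfsg.Agent.Mon.Four
import Cfsg.Agent.Mon.OddA
import Cfsg.Agent.Pari.Tr
import Cfsg.Agent.Pari.Cfg

/-!
# Elements of the centraliser of a 2B-involution and their lifts to `Co0`
-/

set_option autoImplicit false

namespace Cfsg.Agent.Pari

open Subgroup Cfsg Cfsg.Spor Cfsg.Agent.TT Cfsg.Agent.Spor Cfsg.Agent.Spor.Leech Cfsg.Agent.LES
  Cfsg.Agent.LES.Co Cfsg.Agent.Mon Cfsg.Agent.XSC.C1 Cfsg.Agent.Mon.LC

theorem exists_fix_grp {R X : Type*} [Group R] [MulAction R X] {p : ℕ} (hp : p.Prime)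
    (hR : IsPGroup p R) {S : Set X} (hS : ¬ p ∣ S.ncard) (h : ∀ r : R, ∀ x ∈ S, r • x ∈ S) :
    ∃ x ∈ S, ∀ r : R, r • x = x := by
  have : Fact p.Prime := ⟨hp⟩
  have : Finite S := Set.finite_of_ncard_ne_zero fun e => hS (e ▸ dvd_zero p)
  let T : SubMulAction R X := ⟨S, fun r x hx => h r x hx⟩
  have : Finite T := this
  obtain ⟨x, hx⟩ := hR.nonempty_fixed_point_of_prime_not_dvd_card T hS
  exact ⟨x, x.2, fun r => congrArg Subtype.val (hx r)⟩

theorem exists_fix {R X : Type*} [Group R] [MulAction R X] {p k : ℕ} (hp : p.Prime) {g : R}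
    (hg : g ^ p ^ k = 1) {S : Set X} (hS : ¬ p ∣ S.ncard) (h : ∀ x ∈ S, g • x ∈ S) :
    ∃ x ∈ S, g • x = x := by
  have f : IsOfFinOrder g := isOfFinOrder_iff_pow_eq_one.2 ⟨_, pow_pos hp.pos k, hg⟩
  obtain ⟨x, hx, e⟩ := exists_fix_grp (R := zpowers g) hp (fun ⟨_, i, rfl⟩ => ⟨k, Subtype.ext (by
    change (g ^ i) ^ p ^ k = 1
    rw [← zpow_natCast, ← zpow_mul, mul_comm, zpow_mul, zpow_natCast, hg, one_zpow])⟩) hS (by
    rintro ⟨_, hr⟩ x hx
    obtain ⟨n, rfl⟩ := f.mem_powers_iff_mem_zpowers.2 hr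
    change g ^ n • x ∈ S
    clear hr
    induction n with
    | zero => simpa using hx
    | succ n ih => rw [pow_succ', mul_smul]; exact h _ ih)
  exact ⟨x, hx, e ⟨g, mem_zpowers g⟩⟩

theorem exists_fix_conj {G : Type*} [Group G] {p : ℕ} (hp : p.Prime) {R : Subgroup G}
    (hR : IsPGroup p R) {S : Set G} (hS : ¬ p ∣ S.ncard) (h : ∀ r ∈ R, ∀ x ∈ S, r * x * r⁻¹ ∈ S) :
    ∃ x ∈ S, ∀ r ∈ R, r * x = x * r := by
  let _ : MulAction R G := MulAction.compHom G (MulAut.conj.comp R.subtype)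
  obtain ⟨x, hx, e⟩ := exists_fix_grp hp hR hS fun r x hx => h r r.2 x hx
  exact ⟨x, hx, fun r hr => mul_inv_eq_iff_eq_mul.1 (e ⟨r, hr⟩)⟩

theorem exists_fix_conj' {G : Type*} [Group G] {p k : ℕ} (hp : p.Prime) {g : G}
    (hg : g ^ p ^ k = 1) {S : Set G} (hS : ¬ p ∣ S.ncard) (h : ∀ x ∈ S, g * x * g⁻¹ ∈ S) :
    ∃ x ∈ S, g * x = x * g := by
  obtain ⟨x, hx, e⟩ := exists_fix (g := MulAut.conj g) hp (by rw [← map_pow, hg, map_one]) hS h
  exact ⟨x, hx, mul_inv_eq_iff_eq_mul.1 e⟩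

theorem eq_of_odd {H : Type*} [Group H] {a b c : H} {n : ℕ} (hn : Odd n) (hc : c * c = 1)
    (hb : c * b = b * c) (ha : a ^ n = b ^ n) (h : a = b ∨ a = c * b) : a = b := by
  rcases h with e | e
  · exact e
  · obtain ⟨m, rfl⟩ := hn
    rw [e, Commute.mul_pow hb, pow_succ c, pow_mul c, pow_two, hc, one_pow, one_mul,
      mul_eq_right] at ha
    rw [e, ha, one_mul]

theorem comm_of_eqv {H : Type*} [Group H] {z x y : H} (hz : z * z = 1) (xz : x * z = z * x) {n : ℕ}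
    (hn : Odd n) (hx : x ^ n = 1) (e : Eqv z (x * y * x⁻¹) y) : x * y = y * x := by
  rcases e with e1 | e1
  · exact mul_inv_eq_iff_eq_mul.1 e1
  · have : y⁻¹ * x * y⁻¹⁻¹ = x := eq_of_odd hn hz xz.symm
      (by rw [conj_pow, hx, inv_inv, mul_one, inv_mul_cancel]) (Or.inr (by
        rw [inv_inv, mul_assoc, inv_mul_eq_iff_eq_mul, ← mul_assoc, ← e1, inv_mul_cancel_right]))
    rwa [inv_inv, mul_assoc, inv_mul_eq_iff_eq_mul] at this

theorem fix_of_odd {g : Co0} {n : ℕ} (hn : Odd n) (hg : g ^ n = 1) {r : leechLattice}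
    (h : g • r = r ∨ g • r = -r) : g • r = r := by
  rcases h with e | e
  · exact e
  · obtain ⟨m, rfl⟩ := hn
    have : ∀ m, g ^ (2 * m) • r = r := fun m => by
      induction m with
      | zero => simp
      | succ m ih => rw [mul_add, pow_add, mul_smul, mul_one, pow_two, mul_smul, e, smul_neg, e,
          neg_neg, ih]
    rw [← this m, ← mul_smul, ← pow_succ', hg, one_smul, this]

variable {G : Type} [Group G] {z : G} {Q : Subgroup G} {π : centralizer ({z} : Set G) →* Co1}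
  {ψ : leechLattice → G}

/-- `g` lies over the image of `x` in `Co1`. -/
def Ov (π : centralizer ({z} : Set G) →* Co1) (x : G) (g : Co0) : Prop :=
  ∃ hx : x ∈ centralizer ({z} : Set G), (g : Co1) = π ⟨x, hx⟩

theorem exists_ov (π : centralizer ({z} : Set G) →* Co1) {x : G} (h : x * z = z * x) :
    ∃ g, Ov π x g :=
  (QuotientGroup.mk_surjective (π ⟨x, mem_centralizer_singleton_iff.2 h⟩)).imp fun _ e => ⟨_, e⟩

theorem ov_coe {u : centralizer ({z} : Set G)} {g : Co0} : Ov π u g ↔ (g : Co1) = π u :=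
  ⟨fun h => h.2, fun h => ⟨u.2, h⟩⟩

namespace Ov

variable {x y : G} {g k : Co0}

theorem cz (a : Ov π x g) : x * z = z * x := mem_centralizer_singleton_iff.1 a.1

theorem one : Ov π 1 1 := ⟨one_mem _, (map_one π).symm⟩

theorem mul (a : Ov π x g) (b : Ov π y k) : Ov π (x * y) (g * k) :=
  ⟨mul_mem a.1 b.1, by rw [QuotientGroup.mk_mul, a.2, b.2, ← map_mul]; rfl⟩

theorem inv (a : Ov π x g) : Ov π x⁻¹ g⁻¹ :=
  ⟨inv_mem a.1, by rw [QuotientGroup.mk_inv, a.2, ← map_inv]; rfl⟩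

theorem pow (a : Ov π x g) (n : ℕ) : Ov π (x ^ n) (g ^ n) :=
  ⟨pow_mem a.1 n, by rw [QuotientGroup.mk_pow, a.2, ← map_pow]; rfl⟩

theorem conj (a : Ov π x g) (b : Ov π y k) : Ov π (x * y * x⁻¹) (g * k * g⁻¹) := (a.mul b).mul a.inv

theorem neg (a : Ov π x g) : Ov π x (negOne * g) := ⟨a.1, (L4.mk_negOne_mul g).trans a.2⟩

theorem uniq (a : Ov π x g) (b : Ov π x k) : g = k ∨ g = negOne * k :=
  mk_eq_mk_Co1.1 (a.2.trans b.2.symm)

theorem tr_eq (a : Ov π x g) (b : Ov π x k) : tr g = tr k ∨ tr g = -tr k :=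
  (a.uniq b).imp (congrArg tr) fun e => by rw [e, tr_negOne_mul]

theorem eq_odd (a : Ov π x g) (b : Ov π x k) {n : ℕ} (hn : Odd n) (e : g ^ n = k ^ n) : g = k :=
  eq_of_odd hn negOne_mul_self (negOne_comm k).symm e (a.uniq b)

theorem odd (a : Ov π x g) {n : ℕ} (hn : Odd n) (hx : x ^ n = 1) : ∃ k, Ov π x k ∧ k ^ n = 1 := by
  rcases (hx ▸ a.pow n).uniq one with e | e
  · exact ⟨g, a, e⟩
  · refine ⟨_, a.neg, ?_⟩
    obtain ⟨m, rfl⟩ := hn
    rw [Commute.mul_pow (negOne_comm g).symm, e, mul_one, ← pow_succ, show 2 * m + 1 + 1 = 2 * (m + 1)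
      by ring, pow_mul, pow_two, negOne_mul_self, one_pow]

theorem conj_odd {y' : G} {k' : Co0} (a : Ov π x g) (b : Ov π y k) (c : Ov π y' k') {n : ℕ}
    (hn : Odd n) (hk : k ^ n = 1) (hk' : k' ^ n = 1) (e : x * y * x⁻¹ = y') : g * k * g⁻¹ = k' :=
  (e ▸ a.conj b).eq_odd c hn (by rw [conj_pow, hk, hk', mul_one, mul_inv_cancel])

theorem comm_odd (a : Ov π x g) (b : Ov π y k) {n : ℕ} (hn : Odd n) (hk : k ^ n = 1)
    (e : x * y = y * x) : g * k = k * g :=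
  mul_inv_eq_iff_eq_mul.1 (a.conj_odd b b hn hk hk (mul_inv_eq_iff_eq_mul.2 e))

variable (h : If0 z Q π ψ)
include h

theorem of_mem (hx : x ∈ Q) : Ov π x 1 :=
  ⟨LX_le_centralizer h.mon.lx hx, ((h.mon.ker _).2 hx).symm⟩

theorem mem_iff (a : Ov π x g) : x ∈ Q ↔ g = 1 ∨ g = negOne := by
  rw [← h.mon.ker ⟨x, a.1⟩, ← a.2, QuotientGroup.eq_one_iff, mem_center_Co0]

theorem coset (a : Ov π x g) (b : Ov π y g) : x⁻¹ * y ∈ Q :=
  ((a.inv.mul b).mem_iff h).2 (Or.inl (inv_mul_cancel g))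

theorem sq (a : Ov π x g) (hx : x * x = 1) : g * g = 1 := h.sq ⟨x, a.1⟩ g a.2 hx

theorem isA (a : Ov π x g) (hx : x ∈ cA ψ) (hQ : x ∉ Q) : IsA g := h.isA ⟨x, a.1⟩ g a.2 hx hQ

theorem cases (a : Ov π x g) (hx : x * x = 1) (hQ : x ∉ Q) : IsA g ∨ IsC g :=
  ((sq_cases (a.sq h hx)).resolve_left fun e => hQ ((a.mem_iff h).2 (.inl e))).resolve_left
    fun e => hQ ((a.mem_iff h).2 (.inr e))

theorem conj_eqv (a : Ov π x g) {v : leechLattice} (hy : Eqv z y (ψ v)) :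
    Eqv z (x * y * x⁻¹) (ψ (g • v)) := h.mon.conj_eqv (h := ⟨x, a.1⟩) a.2 hy

theorem congr (a : Ov π x g) {v : leechLattice} (hy : Eqv z y (ψ v)) (e : x * y = y * x) :
    ∃ w, g • v - v = w + w := h.mon.congr_of_comm (h := ⟨x, a.1⟩) a.2 hy e

theorem fix_short (a : Ov π x g) {n : ℕ} (hn : Odd n) (hg : g ^ n = 1) {v : leechLattice}
    (hv : nm v = 32) (hy : Eqv z y (ψ v)) (e : x * y = y * x) : g • v = v :=
  fix_of_odd hn hg (h.pm_of_comm (u := ⟨x, a.1⟩) a.2 hy hv e)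

theorem mono (a : Ov π x g) {p : GolayPt} (hy : Eqv z y (ψ (e8 p))) (e : x * y = y * x) :
    g ∈ monoSub := mem_monoSub_iff_congr.2 (a.congr h hy e)

/-- An element of odd order fixing a class of `Λ / 2 Λ` centralises its preimages in `Q`. -/
theorem comm_of_congr (a : Ov π x g) {n : ℕ} (hn : Odd n) (hx : x ^ n = 1) {v w : leechLattice}
    (hy : Eqv z y (ψ v)) (e : g • v - v = w + w) : x * y = y * x := by
  exact comm_of_eqv h.mon.z_sq a.cz hn hx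
    ((h.eqv_congr (a.conj_eqv h hy) e).trans h.mon.z_sq (hy.symm h.mon.z_sq))

end Ov

/-- The twisted projection. -/
def tw (π : centralizer ({z} : Set G) →* Co1) (k : Co0) : centralizer ({z} : Set G) →* Co1 :=
  (MulAut.conj (k : Co1)).toMonoidHom.comp π

theorem Ov.tw {x : G} {g : Co0} (a : Ov π x g) (k : Co0) : Ov (tw π k) x (k * g * k⁻¹) :=
  ⟨a.1, by rw [QuotientGroup.mk_mul, QuotientGroup.mk_mul, QuotientGroup.mk_inv, a.2]; rfl⟩

theorem Ov.of_tw {x : G} {g k : Co0} (a : Ov (Pari.tw π k) x g) : Ov π x (k⁻¹ * g * k) :=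
  ⟨a.1, by
    rw [QuotientGroup.mk_mul, QuotientGroup.mk_mul, QuotientGroup.mk_inv, a.2]
    simp [Pari.tw, mul_assoc]⟩

theorem cA_tw (h : If0 z Q π ψ) (k : Co0) : cA (fun v => ψ (k⁻¹ • v)) = cA ψ := by
  have := h.mem_A_of_eqv (Eqv.refl z (ψ (k⁻¹ • leechU))) ((sqNorm_smul _ _).trans sqNorm_leechU)
  exact Set.ext fun x => ⟨fun a => IsConj.trans this a, fun a => IsConj.trans this.symm a⟩

theorem if0_tw (h : If0 z Q π ψ) (k : Co0) : If0 z Q (tw π k) fun v => ψ (k⁻¹ • v) where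
  mon := h.mon.twist k
  nwc := h.nwc
  sq := fun t g e ht => by
    have := (ov_coe.2 e).of_tw.sq h ht
    rw [show g * g = k * (k⁻¹ * g * k * (k⁻¹ * g * k)) * k⁻¹ by group, this, mul_one, mul_inv_cancel]
  isA := fun t g e ht hQ => ((ov_coe.2 e).of_tw.isA h (cA_tw h k ▸ ht) hQ).conj
    (isConj_iff.2 ⟨k, by group⟩)
  coset := by rw [cA_tw h]; exact h.coset
  nz := by rw [cA_tw h]; exact h.nz

variable [Finite G]

theorem cB_of_ord {lam : G → G → ℝ} (h : If1 z Q π ψ lam) {t g : G} (ht : t * t = 1)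
    (o : 6 < orderOf (t * (g * t * g⁻¹))) : t ∈ cB z := by
  have : Fact (Nat.Prime 2) := ⟨Nat.prime_two⟩
  refine (h.toIf0.two_classes (orderOf_eq_prime ((pow_two t).trans ht) ?_)).resolve_left fun a => ?_
  · rintro rfl
    simp at o
  · exact absurd (h.ord _ a _ (conj_mem_cA a g)) (not_le.2 o)

theorem B_e8 (h : If0 z Q π ψ) {q : G} {v : leechLattice} (hq : Eqv z q (ψ v)) (hv : nm v = 64) :
    q ∈ Q ∧ q ∈ cB z ∧ q ≠ z :=
  ⟨h.mon.mem_of_eqv hq, h.mem_B_of_eqv hq hv,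
    (h.mon.ne_of_short hq (by rw [show sqNorm _ = _ from hv]; norm_num) hv.le).2⟩

/-- Standard coordinates for a 2B-element of `Q`. -/
theorem exists_tw_e8 (h : If0 z Q π ψ) {q : G} (hQ : q ∈ Q) (hq : q ∈ cB z) (hz : q ≠ z)
    (p : GolayPt) : ∃ k : Co0, Eqv z q (ψ (k⁻¹ • e8 p)) := by
  obtain ⟨v, h1, h2⟩ := h.mon.eqv_64_of_isConj hQ hq hz
  obtain ⟨k, hk⟩ := exists_smul_eq_e8 v h2 p
  exact ⟨k, by rwa [← hk, inv_smul_smul]⟩

/-- An involution over the class 2C determines a frame. -/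
theorem fixC (h : If0 z Q π ψ) {s : G} {g : Co0} (a : Ov π s g) (hg : IsC g) :
    ∃ q ∈ Q, q ∈ cB z ∧ q ≠ z ∧ ∀ (x : G) (n : ℕ), Odd n → x ^ n = 1 → x * z = z * x →
      x * s = s * x → x * q = q * x := by
  obtain ⟨k, hk⟩ := isConj_iff.1 (hg.exists_dodecad d0_GC d0_card)
  have h' := if0_tw h k
  obtain ⟨h1, h2, h3⟩ := B_e8 h' (Eqv.refl _ _) (sqNorm_e8 none)
  refine ⟨_, h1, h2, h3, fun x n hn hx hz e => ?_⟩
  obtain ⟨b, hb⟩ := exists_ov (tw π k) hz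
  obtain ⟨b, hb, b1⟩ := hb.odd hn hx
  obtain ⟨w, hw⟩ := mem_monoSub_iff_congr.1 (mem_monoSub_of_dodecad d0_card d0_card
    ((hk ▸ a.tw k).comm_odd hb hn b1 e.symm).symm)
  exact hb.comm_of_congr h' hn hx (Eqv.refl _ _) hw

/-- An element of odd prime power order centralising an involution over the class 2A. -/
theorem fixA (h : If0 z Q π ψ) {s : G} {g : Co0} (a : Ov π s g) (hg : IsA g) {p k : ℕ}
    (hp : p.Prime) (h2 : p ≠ 2) {x : G} (hx : x ^ p ^ k = 1) (hz : x * z = z * x)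
    (e : x * s = s * x) : ∃ u ∈ cA ψ, Ov π u g ∧ x * u = u * x := by
  obtain ⟨b, hb⟩ := exists_ov π hz
  have hn : Odd (p ^ k) := (hp.odd_of_ne_two h2).pow
  obtain ⟨b, hb, b1⟩ := hb.odd hn hx
  obtain ⟨u, hu, e'⟩ := exists_fix_conj' hp hx (S := {u | u ∈ cA ψ ∧ Ov π u g}) (by
    have : {u | u ∈ cA ψ ∧ Ov π u g} =
        Subtype.val '' {u : centralizer ({z} : Set G) | (u : G) ∈ cA ψ ∧ π u = (g : Co1)} :=
      Set.ext fun u => ⟨fun ⟨c, d⟩ => ⟨⟨u, d.1⟩, ⟨c, d.2.symm⟩, rfl⟩,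
        fun ⟨u, ⟨c, d⟩, e⟩ => e ▸ ⟨c, ov_coe.2 d.symm⟩⟩
    rw [this, Set.ncard_image_of_injective _ Subtype.val_injective, h.ncard_over hg,
      show 256 = 2 ^ 8 from rfl]
    exact fun d => h2 ((Nat.prime_dvd_prime_iff_eq hp Nat.prime_two).1 (hp.dvd_of_dvd_pow d)))
    fun u hu => ⟨conj_mem_cA hu.1 x, by
      have := hb.conj hu.2
      rwa [← a.comm_odd hb hn b1 e.symm, mul_inv_cancel_right] at this⟩
  exact ⟨u, hu.1, hu.2, e'⟩

end Cfsg.Agent.Pari
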