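import Cfsg.Agent.Pari.Odd
import Cfsg.Agent.Spor.LeechCountPt

/-!
# Neither `O'N` nor its triple cover lies in a group of Monster type (part of S2198)
-/

set_option autoImplicit false

namespace Cfsg.Agent.Pari

open Subgroup Cfsg Cfsg.Spor Cfsg.Agent.Spor Cfsg.Agent.Spor.Leech Cfsg.Agent.LES
  Cfsg.Agent.LES.Co Cfsg.Agent.Mon Cfsg.Agent.XSC.C1 Cfsg.Agent.Mon.LC
open Cfsg.Agent.TT hiding tr

theorem eq_zero_of_fix {g : Co0} (h : ∀ v : leechLattice, g • v = v → ∃ u, v = u + u)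
    {v : leechLattice} (hv : g • v = v) : v = 0 := by
  have k : ∀ (n : ℕ) (v : leechLattice), g • v = v → ∀ i, (2 : ℤ) ^ n ∣ (v : GolayPt → ℤ) i := by
    intro n
    induction n with
    | zero => simp
    | succ n ih =>
      intro v hv i
      obtain ⟨u, rfl⟩ := h v hv
      rw [AddSubgroup.coe_add, Pi.add_apply, ← two_mul, pow_succ']
      exact mul_dvd_mul_left _ (ih u (two_smul_inj (by rwa [smul_add] at hv)) i)
  refine Subtype.ext (funext fun i => Int.eq_zero_of_dvd_of_natAbs_lt_natAbs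
    (k ((v : GolayPt → ℤ) i).natAbs v hv i) ?_)
  rw [Int.natAbs_pow]
  exact Nat.lt_two_pow_self

theorem tr_sum {y g : Co0} (hN : ∑ j ∈ Finset.range 7, rho y ^ j = 0) :
    tr g + tr (y ^ 1 * g) + tr (y ^ 2 * g) + tr (y ^ 3 * g) + tr (y ^ 4 * g) + tr (y ^ 5 * g) +
      tr (y ^ 6 * g) = 0 := by
  have := congrArg (fun X => 8 * tau (X * rho g)) hN
  simpa only [add_mul, map_add, mul_add, ← map_pow, ← map_mul, tau_rho, zero_mul, map_zero, mul_zero,
    Finset.sum_range_succ, Finset.sum_range_zero, zero_add, pow_zero, one_mul] using this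

theorem tr_eq_zero {y g : Co0} (hy : y ^ 7 = 1) (hN : ∑ j ∈ Finset.range 7, rho y ^ j = 0) {k : ℕ}
    (hk : k = 2 ∨ k = 4) (h : g * y * g⁻¹ = y ^ k) : tr g = 0 := by
  have a : ∀ i, tr (y ^ (i + 1) * g) = tr (y ^ ((i + k) % 7) * g) := fun i => by
    rw [← pow_eq_pow_mod _ hy, pow_add _ _ k, ← h, pow_succ', mul_assoc, tr_mul_comm]
    simp [mul_assoc]
  have := tr_sum (g := g) hN
  have a0 := a 0; have a1 := a 1; have a2 := a 2; have a3 := a 3; have a4 := a 4; have a5 := a 5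
  rcases hk with rfl | rfl <;> norm_num at * <;> omega

theorem tr_inv (g : Co0) : tr g⁻¹ = tr g := Finset.sum_congr rfl fun k _ => by
  have e : ∀ v : leechLattice, dt v (e8 k) = 8 * (v : GolayPt → ℤ) k := fun v => by
    simp [dt, dotInt, e8, Pi.single_apply, mul_comm]
  have := dt_smul g (g⁻¹ • e8 k) (e8 k)
  rw [smul_inv_smul, dt_comm, e, e] at this
  omega

theorem six_dvd {y c w i : Co0} (hy : y ^ 7 = 1) (hN : ∑ j ∈ Finset.range 7, rho y ^ j = 0)
    (hw : w * y * w⁻¹ = y ^ 2) (hi : i * y * i⁻¹ = y ^ 6) (cw : w * c = c * w) (ci : i * c = c * i) :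
    6 ∣ tau (rho c) := by
  have a : ∀ {w k}, w * y * w⁻¹ = y ^ k → w * c = c * w → ∀ j,
      tr (y ^ j * c) = tr (y ^ (k * j % 7) * c) := fun {w k} hw cw j => by
    rw [← pow_eq_pow_mod _ hy, pow_mul, ← hw, conj_pow, ← tr_conj w, mul_assoc _ w⁻¹,
      (Commute.inv_left cw).eq]
    simp only [mul_assoc]
  have := tr_sum (g := c) hN
  have a1 := a hw cw 1; have a2 := a hw cw 2; have a3 := a hw cw 3; have a6 := a hw cw 6
  have b1 := a hi ci 1
  have := tau_rho c
  have := tau_rho (y ^ 1 * c)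
  simp only [Nat.reduceMul, Nat.reduceMod] at a1 a2 a3 a6 b1
  omega

theorem sq_S {R : Type*} [Ring R] {w e p : R} (hw : w * p = p * w) (he : e * p = p * e)
    (w3 : w * w * w * p = p) (e3 : e * e * e * p = p) (ew : e * w * p = w * e * p)
    (pp : p * p = (3 : ℤ) • p) : (1 + w + w * w) * (1 + e + e * e) * p *
      ((1 + w + w * w) * (1 + e + e * e) * p) = (27 : ℤ) • ((1 + w + w * w) * (1 + e + e * e) * p) := by
  have hU : Commute (1 + w + w * w) p := ((Commute.one_left p).add_left hw).add_left (Commute.mul_left hw hw)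
  have hV : Commute (1 + e + e * e) p := ((Commute.one_left p).add_left he).add_left (Commute.mul_left he he)
  have k : ∀ {x : R}, x * x * x * p = p → x * (1 + x + x * x) * p = (1 + x + x * x) * p := fun h => by
    simp only [mul_add, add_mul, mul_one, one_mul, ← mul_assoc, h]; abel
  have k3 : ∀ {x s : R}, x * s = s → (1 + x + x * x) * s = (3 : ℤ) • s := fun h => by
    simp only [add_mul, one_mul, mul_assoc, h]; abel
  have eU : e * (1 + w + w * w) * p = (1 + w + w * w) * e * p := by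
    have : e * w * w * p = w * w * e * p := by
      rw [mul_assoc _ w p, hw, ← mul_assoc, ew, mul_assoc _ p w, ← hw, ← mul_assoc, mul_assoc w e w,
        mul_assoc w _ p, ew]
      simp only [mul_assoc]
    simp only [mul_add, add_mul, mul_one, one_mul, ← mul_assoc, this, ew]
  have h1 : w * ((1 + w + w * w) * (1 + e + e * e) * p) = (1 + w + w * w) * (1 + e + e * e) * p := by
    rw [mul_assoc _ _ p, hV.eq, ← mul_assoc, ← mul_assoc, k w3, mul_assoc]
  have h2 : e * ((1 + w + w * w) * (1 + e + e * e) * p) = (1 + w + w * w) * (1 + e + e * e) * p := by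
    rw [mul_assoc _ _ p, hV.eq, ← mul_assoc, ← mul_assoc, eU, mul_assoc, ← hV.eq, mul_assoc,
      ← mul_assoc e, k e3]
  have h3 : p * ((1 + w + w * w) * (1 + e + e * e) * p) =
      (3 : ℤ) • ((1 + w + w * w) * (1 + e + e * e) * p) := by
    rw [← mul_assoc, ← (hU.mul_left hV).eq, mul_assoc, pp, mul_smul_comm]
  rw [mul_assoc, h3, mul_smul_comm, mul_assoc (1 + w + w * w), k3 h2, mul_smul_comm, k3 h1, smul_smul,
    smul_smul]
  rfl

variable {G : Type} [Group G] [Finite G] {z : G} {Q : Subgroup G}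
  {π : centralizer ({z} : Set G) →* Co1} {ψ : leechLattice → G}

theorem exists_B_of_seven (h : If0 z Q π ψ) {y q : G} (hy : y ^ 7 = 1) (yz : y * z = z * y)
    (hQ : q ∈ Q) (h1 : q ≠ 1) (hz : q ≠ z) (yq : y * q = q * y) :
    ∃ q ∈ Q, q ∈ cB z ∧ q ≠ z ∧ y * q = q * y := by
  obtain ⟨g, a⟩ := exists_ov π yz
  obtain ⟨g, a, g7⟩ := a.odd (by decide) hy
  have k : ∀ {r : leechLattice} {d : ℤ}, g • r = r →
      ¬ 7 ∣ {x : leechLattice | nm x = 32 ∧ dt r x = d}.ncard → ∃ s, nm s = 32 ∧ dt r s = d ∧ g • s = s :=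
    fun {r d} hr hn => by
      obtain ⟨s, hs, e⟩ := exists_fix (k := 1) (g := g) (by norm_num) g7 hn fun x hx =>
        ⟨(nm_smul g x).trans hx.1, by rw [← hx.2, ← dt_smul g r x, hr]⟩
      exact ⟨s, hs.1, hs.2, e⟩
  have k32 : ∀ r, nm r = 32 → g • r = r → ∃ q ∈ Q, q ∈ cB z ∧ q ≠ z ∧ y * q = q * y := fun r hr e => by
    obtain ⟨s, s1, s2, s3⟩ := k e (d := 0) (by rw [count_orth hr]; decide)
    obtain ⟨b1, b2, b3⟩ := B_e8 h (Eqv.refl _ (ψ (r + s))) (by rw [nm_add, hr, s1, s2]; rfl)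
    exact ⟨_, b1, b2, b3, a.comm_of_congr h (by decide) hy (Eqv.refl _ _) (w := 0) (by
      rw [smul_add, e, s3, sub_self, add_zero])⟩
  obtain ⟨v, hv, e | e | e⟩ := h.mon.exists_short hQ h1 hz
  · exact k32 v e (a.fix_short h (by decide) g7 e hv yq)
  · obtain ⟨u, hu⟩ := a.congr h hv yq
    obtain ⟨s, s1, -, s3⟩ := k (fix_of_odd (by decide) g7 (eq_or_neg_of_congr
      (by rw [sqNorm_smul, e]; norm_num) (by omega) hu)) (d := 24) (by rw [count_552 e]; decide)
    exact k32 s s1 s3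
  · obtain ⟨b1, b2, b3⟩ := B_e8 h hv e
    exact ⟨q, b1, b2, b3, yq⟩

theorem exists_cent_Q (h : If0 z Q π ψ) {s b : G} (hs : s ∈ cB z) (hs' : s * z ∈ cB z)
    (sz : s * z = z * s) (hb : b ^ 3 = 1) (bz : b * z = z * b) (bs : b * s = s * b) :
    ∃ q ∈ Q, q ≠ 1 ∧ q ≠ z ∧ b * q = q * b := by
  by_cases hQ : s ∈ Q
  · exact ⟨s, hQ, h.ne_one_B hs, fun e => h.ne_one_B hs' (by rw [e, h.mon.z_sq]), bs⟩
  obtain ⟨g, a⟩ := exists_ov π sz
  rcases a.cases h (h.mul_self_B hs) hQ with e | e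
  · obtain ⟨u, u1, u2, u3⟩ := fixA h a e (p := 3) (k := 1) (by norm_num) (by norm_num) hb bz bs
    exact ⟨_, a.coset h u2, fun e => h.disj u1 (inv_mul_eq_one.1 e ▸ hs),
      fun e => h.disj u1 ((inv_mul_eq_iff_eq_mul.1 e).symm ▸ hs'),
      (Commute.inv_right bs).mul_right u3⟩
  · obtain ⟨q, q1, q2, q3, q4⟩ := fixC h a e
    exact ⟨q, q1, h.ne_one_B q2, q3, q4 b 3 (by decide) hb bz bs⟩

/-- all lifts of the elements of the coset `x ⟨b⟩` have trace zero -/
def TZ (π : centralizer ({z} : Set G) →* Co1) (b x : G) : Prop :=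
  ∀ k g, Ov π (x * b ^ k) g → tr g = 0

omit [Finite G] in
theorem TZ.of_mul {b x : G} {m : ℕ} (hb : b ^ 3 = 1) (a : TZ π b (x * b ^ m)) : TZ π b x :=
  fun k g o => a (k + 2 * m) g (by
    rwa [mul_assoc, ← pow_add, show m + (k + 2 * m) = k + 3 * m by ring, pow_add, pow_mul, hb, one_pow,
      mul_one])

omit [Finite G] in
theorem TZ.conj {b x n : G} (a : TZ π b x) (nz : n * z = z * n) (nb : n * b = b * n) :
    TZ π b (n * x * n⁻¹) := fun k g o => by
  obtain ⟨N, c⟩ := exists_ov π nz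
  rw [← tr_conj N⁻¹]
  refine a k _ (by
    convert c.inv.conj o using 1
    rw [mul_assoc _ n⁻¹, (Commute.inv_left (Commute.pow_right nb k)).eq]
    simp [mul_assoc])

theorem noON_aux (h : If0 z Q π ψ) (c : CON G) (ht : c.t = z) : False := by
  obtain ⟨t, s, g, g1, g2, y, w, e, i, u1, u2, n1, n2, n3, b, k0, k1, k2, k3, k4, k5, k6, tt, st, o,
    c1, c2, y7, yt, wt, et, it, n1t, n2t, n3t, wy, iy, u1y, u2y, b3, bt, bs, yb, wb, eb, ib, n1b, n2b,
    n3b, w3, e3, ew, m1, m2, m3, uu⟩ := c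
  change t = z at ht
  subst ht
  have y7' : y ^ 7 = 1 := y7 ▸ pow_orderOf_eq_one y
  have p3 : ∀ {H : Type} [Group H] {b : H} (k : ℕ), b ^ 3 = 1 → (b ^ k) ^ 3 = 1 := fun k hb => by
    rw [← pow_mul, mul_comm, pow_mul, hb, one_pow]
  have p9 : ∀ {H : Type} [Group H] {x : H}, (x ^ 3) ^ 3 = 1 → x ^ 9 = 1 := fun hb => by
    rwa [← pow_mul] at hb
  obtain ⟨Y, aY⟩ := exists_ov π yt
  obtain ⟨Y, aY, Y7⟩ := aY.odd (by decide) y7'
  by_cases hc : ∀ v : leechLattice, (∃ u, Y • v - v = u + u) → ∃ u, v = u + u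
  swap
  · push Not at hc
    obtain ⟨v, ⟨u, hu⟩, hv⟩ := hc
    have nv := not_or.1 fun k => (eqv_one_iff.2 k |> (h.mon.triv v).1).elim hv
    obtain ⟨q, q1, q2, q3, q4⟩ := exists_B_of_seven h y7' yt (h.mon.mem v) nv.1 nv.2
      (aY.comm_of_congr h (by decide) y7' (Eqv.refl _ _) hu)
    refine he_case h q1 q2 q3 y7 yt q4 ?_
    have := pow_mem (uu ▸ commutator_mem_commutator (mem_centralizer_singleton_iff.2 u1y)
      (mem_centralizer_singleton_iff.2 u2y) :
        y * b ^ k4 ∈ ⁅centralizer ({y} : Set G), centralizer ({y} : Set G)⁆) 15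
    rwa [(Commute.pow_right yb k4).mul_pow, show 15 = 3 * 5 from rfl, pow_mul (b ^ k4), p3 _ b3,
      one_pow, mul_one, pow_eq_pow_mod _ y7', show 3 * 5 % 7 = 1 from rfl, pow_one] at this
  have hN : ∑ j ∈ Finset.range 7, rho Y ^ j = 0 := LinearMap.ext fun v =>
    eq_zero_of_fix (fun v hv => hc v ⟨0, by rw [hv, sub_self, add_zero]⟩) (by
      have := LinearMap.congr_fun (mul_geom_sum (rho Y) 7) v
      rwa [← map_pow, Y7, map_one, sub_self, Module.End.mul_apply, LinearMap.sub_apply,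
        LinearMap.zero_apply, sub_eq_zero] at this)
  obtain ⟨B, aB⟩ := exists_ov π bt
  obtain ⟨B, aB, B3⟩ := aB.odd (by decide) b3
  obtain ⟨W, aW⟩ := exists_ov π wt
  obtain ⟨W, aW, W9⟩ := aW.odd (by decide) (p9 (w3 ▸ p3 _ b3))
  obtain ⟨E, aE⟩ := exists_ov π et
  obtain ⟨E, aE, E9⟩ := aE.odd (by decide) (p9 (e3 ▸ p3 _ b3))
  obtain ⟨I, aI⟩ := exists_ov π it
  have p7 : ∀ k, (Y ^ k) ^ 7 = 1 := fun k => by rw [← pow_mul, mul_comm, pow_mul, Y7, one_pow]
  have WY := aW.conj_odd aY (aY.pow 2) (by decide) Y7 (p7 2) wy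
  have IY := aI.conj_odd aY (aY.pow 6) (by decide) Y7 (p7 6) iy
  have YB : Commute Y B := aY.comm_odd aB (by decide) B3 yb
  have WB : Commute W B := aW.comm_odd aB (by decide) B3 wb
  have EB : Commute E B := aE.comm_odd aB (by decide) B3 eb
  have IB : Commute I B := aI.comm_odd aB (by decide) B3 ib
  have W3 : W ^ 3 = B ^ k5 := (w3 ▸ aW.pow 3).eq_odd (aB.pow k5) (n := 3) (by decide) (by
    rw [← pow_mul, W9, p3 _ B3])
  have E3 : E ^ 3 = B ^ k6 := (e3 ▸ aE.pow 3).eq_odd (aB.pow k6) (n := 3) (by decide) (by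
    rw [← pow_mul, E9, p3 _ B3])
  have EW := aW.inv.conj_odd aE (aE.mul (aB.pow k0)) (n := 9) (by decide) E9 (by
    rw [(EB.pow_right _).mul_pow, E9, p9 (by rw [p3 _ B3, one_pow]), mul_one]) (by
    rw [inv_inv, mul_assoc, ew]; simp [mul_assoc])
  rw [inv_inv, mul_assoc, inv_mul_eq_iff_eq_mul, ← mul_assoc] at EW
  have tz : ∀ {x X k}, k = 2 ∨ k = 4 → Ov π x X → X * Y * X⁻¹ = Y ^ k → TZ π b x :=
    fun {x X k} hk a e m g o => by
      have := tr_eq_zero Y7 hN hk (g := X * B ^ m) (by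
        rw [← e, mul_assoc X, ← (YB.pow_right m).eq]; simp [mul_assoc])
      rcases o.tr_eq (a.mul (aB.pow m)) with k | k <;> rw [k, this]
      rfl
  have t1 := tz (.inl rfl) aW WY
  have t2 := tz (.inr rfl) (aW.mul aW) (by
    rw [show W * W * Y * (W * W)⁻¹ = W * (W * Y * W⁻¹) * W⁻¹ by group, WY, ← conj_pow, WY, ← pow_mul])
  have cw : ∀ k x, b ^ k * (w * x) = w * (b ^ k * x) := fun k x => by
    rw [← mul_assoc, ← (Commute.pow_right wb k).eq, mul_assoc]
  have ce : ∀ k x, b ^ k * (e * x) = e * (b ^ k * x) := fun k x => by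
    rw [← mul_assoc, ← (Commute.pow_right eb k).eq, mul_assoc]
  have ew' : ∀ x, e * (w * x) = w * (e * (b ^ k0 * x)) := fun x => by
    rw [← mul_assoc, ew]; simp only [mul_assoc]
  have e3' : ∀ x, e * (e * (e * x)) = b ^ k6 * x := fun x => by
    rw [← e3]; simp only [pow_succ, pow_zero, one_mul, mul_assoc]
  have s1 := (m1 ▸ t1.conj n1t n1b).of_mul b3
  have s2 := (m2 ▸ t1.conj n2t n2b).of_mul b3
  have s3 := (m3 ▸ t1.conj n3t n3b).of_mul b3
  have s4 : TZ π b (e * e) := .of_mul (m := k1 + k1) b3 (by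
    have := t2.conj n1t n1b
    rw [← conj_mul, m1] at this
    simpa only [mul_assoc, ce, pow_add] using this)
  have s5 : TZ π b (w * w * (e * e)) := .of_mul (m := k0 + (k2 + k2)) b3 (by
    have := t2.conj n2t n2b
    rw [← conj_mul, m2] at this
    simpa only [mul_assoc, cw, ce, ew', pow_add] using this)
  have s6 : TZ π b (w * w * e) := .of_mul (m := k0 + (k6 + (k0 + (k3 + k3)))) b3 (by
    have := t2.conj n3t n3b
    rw [← conj_mul, m3] at this
    simpa only [mul_assoc, cw, ce, ew', e3', pow_add] using this)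
  generalize hp : 1 + rho B + rho B * rho B = p
  have Bp : rho B * p = p := by
    rw [← hp, mul_add, mul_add, ← map_mul, ← map_mul, ← pow_three, B3, map_one, mul_one]; abel
  have Bk : ∀ k, rho (B ^ k) * p = p := fun k => by
    induction k with
    | zero => simp
    | succ k ih => rw [pow_succ, map_mul, mul_assoc, Bp, ih]
  have cp : ∀ {X}, Commute X B → rho X * p = p * rho X := fun c => hp ▸
    ((Commute.one_right _).add_right (c.map rho)).add_right ((c.map rho).mul_right (c.map rho))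
  have pp : p * p = ((3 : ℕ) : ℤ) • p := by
    conv_lhs => enter [1]; rw [← hp]
    simp only [add_mul, one_mul, mul_assoc, Bp]; abel
  have z0 : ∀ {x X}, TZ π b x → Ov π x X → tau (rho X * p) = 0 := fun {x X} a o => by
    have a0 := tau_rho X
    have a1 := tau_rho (X * B)
    have a2 := tau_rho (X * (B * B))
    rw [a 0 _ (by simpa using o)] at a0
    rw [a 1 _ (by simpa using o.mul aB)] at a1
    rw [a 2 _ (by simpa [pow_two] using o.mul (aB.mul aB))] at a2
    simp only [← hp, mul_add, mul_one, map_add, ← map_mul]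
    omega
  obtain ⟨m, -, hm, -⟩ := idem (n := 27) (by norm_num) (sq_S (cp WB) (cp EB)
    (by rw [← map_mul, ← map_mul, ← pow_three', W3, Bk]) (by
      rw [← map_mul, ← map_mul, ← pow_three', E3, Bk])
    (by rw [← map_mul, EW, map_mul, mul_assoc, Bk, map_mul]) pp)
  simp only [add_mul, mul_add, one_mul, mul_one, map_add, ← map_mul, z0 t1 aW, z0 t2 (aW.mul aW),
    z0 s1 aE, z0 s2 (aW.mul aE), z0 (mul_assoc w e e ▸ s3) (aW.mul (aE.mul aE)), z0 s4 (aE.mul aE),
    z0 s5 ((aW.mul aW).mul (aE.mul aE)), z0 s6 ((aW.mul aW).mul aE), add_zero] at hm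
  obtain ⟨l, l1, l2, l3⟩ := idem (by norm_num) pp
  have d1 := six_dvd Y7 hN WY IY WB IB
  have d2 := tr_inv B
  rw [inv_eq_of_mul_eq_one_right ((pow_three B).symm.trans B3), ← tau_rho, ← tau_rho] at d2
  have d3 := congrArg tau hp
  rw [map_add, map_add, tau_one, ← map_mul] at d3
  obtain ⟨q, q1, q2, q3, q4⟩ := exists_cent_Q h (c1 ▸ conj_mem_cB z_mem_cB g1)
    (c2 ▸ conj_mem_cB z_mem_cB g2) st b3 bt bs
  obtain ⟨v, hv⟩ := h.mon.onto q q1
  obtain ⟨u, hu⟩ := aB.congr h hv q4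
  have := LinearMap.congr_fun (hp.trans (l3 (by omega))) v
  rw [sub_eq_iff_eq_add] at hu
  simp only [LinearMap.add_apply, Module.End.mul_apply, Module.End.one_apply, rho_apply, hu, smul_add,
    LinearMap.zero_apply] at this
  exact not_or.2 ⟨q2, q3⟩ (eqv_one_iff.1 (hv.trans h.mon.z_sq ((h.mon.triv v).2
    ⟨-(v + u + u + B • u), by rw [← sub_eq_zero, ← this]; abel⟩)))

theorem noON {lam : G → G → ℝ} (h : If1 z Q π ψ lam) (c : CON G) : False := by
  obtain ⟨g, hg⟩ := isConj_iff.1 (IsConj.symm (cB_of_ord h c.tt c.o))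
  exact noON_aux h.toIf0 (c.map (MulAut.conj g).toMonoidHom (MulAut.conj g).injective) hg

end Cfsg.Agent.Pari
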