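import Cfsg.Agent.Pari.Loc
import Cfsg.Agent.MonU.BrA
import Cfsg.Agent.FGS.SchurHopf
import Cfsg.Agent.S5461

/-!
# Elements of order 3 and 7 centralising a pair of perpendicular 2B-involutions
-/

set_option autoImplicit false

namespace Cfsg.Agent.Pari

open Subgroup Cfsg Cfsg.Spor Cfsg.Agent.TT Cfsg.Agent.Spor Cfsg.Agent.Spor.Leech Cfsg.Agent.LES
  Cfsg.Agent.LES.Co Cfsg.Agent.Mon Cfsg.Agent.Mon.LC Cfsg.Agent.Spor.M24C Cfsg.Agent.Mont

theorem one_class {H : Type*} [Group H] [Finite H] {y : H} {R : Subgroup H}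
    {γ : centralizer ({y} : Set H) →* alternatingGroup (Fin 9)} (r : RData y R 256 γ) :
    Nat.card H = 90745943887872000 ∧ ∀ a b : H, orderOf a = 2 → orderOf b = 2 → IsConj a b := by
  have e : pCore 2 (centralizer ({y} : Set H)) = R.subgroupOf _ := by
    rw [le_antisymm r.lx.le_O2C r.o2, O2C, subgroupOf, comap_map_eq_self_of_injective
      (subtype_injective _)]
  have hO : oddCore H = ⊥ := Odd.RData.odd_bot r (by norm_num) _
    (Nat.coprime_two_right.1 (Grp.pPrimeCore_coprime 2 H)) (by simp [normalizer_eq_top])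
  refine (S3227.result y r.lx.orderOf_z ?_ (e ▸ isExtraspecial_subgroupOf r.lx) ?_ ?_
    (hn := pCore_normal 2 _) ((QuotientGroup.quotientMulEquivOfEq (e.trans r.ker_eq)).trans
      (QuotientGroup.quotientKerEquivOfSurjective γ r.surj))).2.imp_right And.left
  · rw [hO, sup_bot_eq]
    intro h
    obtain ⟨g, -, h2⟩ := r.nwc
    exact h2 (conj_eq_of_comm (mem_centralizer_singleton_iff.1 (h.ge (mem_top g))))
  · rw [e, Grp.card_subgroupOf_of_le (LX_le_centralizer r.lx), r.card]; rfl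
  · rw [e]
    intro c hc
    exact r.lx.cent_mem c fun x hx => congrArg Subtype.val (hc ⟨x, LX_le_centralizer r.lx hx⟩ hx)

variable {G : Type} [Group G] [Finite G] {z : G} {Q : Subgroup G}
  {π : centralizer ({z} : Set G) →* Co1} {ψ : leechLattice → G} (h : If0 z Q π ψ) {q : G}
  (hQ : q ∈ Q) (hq : q ∈ cB z) (hz : q ≠ z)
include h hQ hq hz

theorem exists_theta : ∃ θ, Th z q Q θ := by
  obtain ⟨k, hk⟩ := exists_tw_e8 h hQ hq hz none
  exact exists_th (h.mon.twist k) hk hq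

theorem three_cases {b : G} (hb : orderOf b = 3) (bz : b * z = z * b) (bq : b * q = q * b) :
    (Nat.card (centralizer ({b} : Set G)) = 3 * 90745943887872000 ∧
      ∀ a ∈ cA ψ, a * b ≠ b * a) ∨
    (Nat.card (centralizer ({b} : Set G)) = 3 * 1255205709190661721292800 ∧
      ∃ a ∈ Q, a ∈ cA ψ ∧ a * b = b * a) := by
  have : Fact (Nat.Prime 2) := ⟨Nat.prime_two⟩
  obtain ⟨θ, t⟩ := exists_theta h hQ hq hz
  let b' : centralizer ({z, q} : Set G) := ⟨b, mem_cent2.2 ⟨bz, bq⟩⟩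
  have o := oq_mk (B := zpowers b) Nat.prime_three (by norm_num) hb rfl
  have h3 := orderOf_three_iff.1 (t.map_ne Nat.prime_three (by norm_num) (b := b')
    (by rwa [orderOf_mk]))
  obtain ⟨k, hk | hk⟩ := order3_conj (θ b') h3.1 h3.2
  · have h4 : IsConj (θ b') (mc x1) := isConj_iff.2 ⟨k, hk⟩
    obtain ⟨ρ, c, hL⟩ := C3A.cdata
    obtain ⟨π', φ, d, hx, γ, r⟩ := t.main h4 o c
    obtain ⟨_, ⟨a1, a2, a3, a4, a5⟩, N, M, _, _, a6, a7, a8, ⟨K, _, _, a9, ⟨e⟩⟩, a10⟩ := r.fischer hL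
    obtain ⟨f⟩ := S1715.result _ a1 _ N M a2 a3 a4 a6 a7 a8 K a9 e a10 a5
    refine .inr ⟨by rw [Odd.card_K o, Nat.card_congr f.toEquiv, S1698.result.2], ?_⟩
    obtain ⟨i, hi, j, hj, hij⟩ := Finset.one_lt_card.1 (card_fixSet_x1.symm ▸ (by norm_num : 1 < 6))
    have hv := MonU.Br.norm_v4 hij true
    have h5 : permHom (mc x1) • MonU.Br.v4 i j true = MonU.Br.v4 i j true :=
      Subtype.ext (funext fun p => by
        rw [permHom_smul, MonU.Br.v4_apply, MonU.Br.v4_apply]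
        simp only [Equiv.symm_apply_eq, mem_fixSet.1 hi, mem_fixSet.1 hj])
    have h6 := d.ne_of_short (Eqv.refl _ _) (by rw [hv]; norm_num) (by rw [hv]; norm_num)
    have h7 := (d.sq_iff (Eqv.refl _ _)).2 (by rw [hv]; rfl)
    refine ⟨_, d.mem _, ((h.cases_Q (d.mem _) h7).resolve_left h6.1).resolve_right fun a => ?_, ?_⟩
    · obtain ⟨v, h8, h9⟩ := d.eqv_64_of_isConj (d.mem _) a h6.2
      obtain ⟨w, hw⟩ := d.eqv_iff.1 h8
      rcases eq_or_neg_of_congr (by rw [hv]; norm_num) h9.le hw with e | e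
      · rw [e, h9] at hv; omega
      · rw [e, show sqNorm _ = _ from nm_neg v, show nm v = _ from h9] at hv; omega
    · have h8 := d.conj_eqv hx (Eqv.refl _ (φ (MonU.Br.v4 i j true)))
      rw [h5] at h8
      exact (comm_of_eqv d.z_sq bz (n := 3) (by decide) (hb ▸ pow_orderOf_eq_one b) h8).symm
  · have h4 : IsConj (θ b') (mc x2) := isConj_iff.2 ⟨k, hk⟩
    obtain ⟨ρ, c⟩ := C3B.cdata
    obtain ⟨π', φ, d, hx, γ, r⟩ := t.main h4 o c
    obtain ⟨h5, h6⟩ := one_class r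
    refine .inl ⟨by rw [Odd.card_K o, h5], fun a ha e => ?_⟩
    have k4 : ∀ {u : G}, u * u = 1 → u ^ 4 = 1 := fun e => by
      rw [show 4 = 2 * 2 from rfl, pow_mul, pow_two _, pow_two, e, mul_one]
    have k2 : ∀ {u : G} (hu : u * b = b * u), u * u = 1 → u ≠ 1 →
        orderOf (QuotientGroup.mk' ((zpowers b).subgroupOf (centralizer (zpowers b : Set G)))
          ⟨u, (o.mem u).2 hu⟩) = 2 := fun {u} hu e1 e2 => orderOf_eq_prime (by
        rw [← map_pow, pow_two]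
        exact (congrArg _ (Subtype.ext e1)).trans (map_one _)) fun e3 =>
      e2 (congrArg Subtype.val (o.inj4 (a' := 1) (k4 e1) (one_pow 4) (e3.trans (map_one _).symm)))
    obtain ⟨g, hg⟩ := isConj_iff.1 (h6 _ _ (k2 bz.symm d.z_sq (h.ne_one_B z_mem_cB))
      (k2 e (h.mul_self_A ha) (h.ne_one_A ha)))
    obtain ⟨g, rfl⟩ := o.surj g
    exact h.disj ha (isConj_iff.2 ⟨_, o.conj_eq (k4 d.z_sq) (k4 (h.mul_self_A ha)) hg⟩)

theorem he_case {y : G} (hy : orderOf y = 7) (yz : y * z = z * y) (yq : y * q = q * y) :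
    y ∉ ⁅centralizer ({y} : Set G), centralizer ({y} : Set G)⁆ := by
  have : Fact (Nat.Prime 7) := ⟨by norm_num⟩
  obtain ⟨θ, t⟩ := exists_theta h hQ hq hz
  obtain ⟨b, h1, h2, h3⟩ := t.sylow (by norm_num : Nat.Prime 7) (by norm_num) ord_y7 fact_M24_seven
    (B := zpowers y) (zpowers_le.2 (mem_cent2.2 ⟨yz, yq⟩)) (by
      rw [t.fact (by norm_num) (by norm_num), fact_M24_seven, Nat.card_zpowers, hy, pow_one])
  have o := oq_mk (B := zpowers y) (by norm_num : Nat.Prime 7) (by norm_num) h1 h2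
  obtain ⟨e⟩ := isoHe t h3 o
  have h4 := FGS.ker_inf_commutator_eq_bot_of_trivial_multiplier S2049.result
    (ξ := e.toMonoidHom.comp (QuotientGroup.mk' _)) (e.surjective.comp o.surj) fun k hk =>
      Subgroup.mem_center_iff.2 fun g => Subtype.ext
        (g.2 _ ((QuotientGroup.eq_one_iff k).1 (e.map_eq_one_iff.1 hk))).symm
  rw [← centralizer_zpowers_eq, ← map_subtype_commutator]
  rintro ⟨k, hk, e1⟩
  rw [mem_bot.1 (h4.le ⟨e.map_eq_one_iff.2 ((QuotientGroup.eq_one_iff k).2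
    (show (k : G) ∈ zpowers y from ⟨1, (zpow_one y).trans e1.symm⟩)), hk⟩), map_one] at e1
  simp [← e1] at hy

end Cfsg.Agent.Pari
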