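import Cfsg.Agent.Pari.Def2
import Cfsg.Agent.FGS.SchurBasic
import Cfsg.Agent.KSG.MultCov
import Cfsg.Agent.Grp.ConjCount

/-!
# Minimal subgroups mapping onto a simple group (reduction for S2198)

-/

set_option autoImplicit false

namespace Cfsg.Agent.Pari

open Subgroup

variable {X S : Type*} [Group X] [Finite X] [Group S] {φ : X →* S}

/-- Take `H` minimal among the subgroups with `H.map φ = ⊤` (well-founded order). -/
theorem exists_mn (h : Function.Surjective φ) : ∃ H : Subgroup X, Mn (φ.comp H.subtype) := by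
  obtain ⟨H, hH, hmin⟩ := (wellFounded_lt (α := Subgroup X)).has_min {H | H.map φ = ⊤}
    ⟨⊤, map_top_of_surjective φ h⟩
  refine ⟨H, fun s => ?_, fun K hK => ?_⟩
  · obtain ⟨x, hx, e⟩ : s ∈ H.map φ := hH.ge (mem_top s)
    exact ⟨⟨x, hx⟩, e⟩
  · rw [← map_map] at hK
    have h1 : K.map H.subtype = H :=
      (map_subtype_le K).eq_or_lt.resolve_right (hmin _ hK)
    apply map_injective H.subtype_injective
    rw [h1, ← MonoidHom.range_eq_map, range_subtype]

/-- `(commutator X).map φ = commutator S = ⊤`. -/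
theorem Mn.perfect (m : Mn φ) (hS : commutator S = ⊤) : commutator X = ⊤ := by
  apply m.min
  rw [commutator_def, map_commutator, map_top_of_surjective φ m.surj, ← commutator_def, hS]

/-- `N.map φ` is normal in `S` and not trivial. -/
theorem Mn.eq_top [IsSimpleGroup S] (m : Mn φ) (N : Subgroup X) [N.Normal] {x : X} (hx : x ∈ N)
    (h1 : φ x ≠ 1) : N = ⊤ := by
  apply m.min
  refine (Normal.map ‹N.Normal› φ m.surj).eq_bot_or_eq_top.resolve_left fun h => h1 ?_
  exact mem_bot.1 (h.le ⟨x, hx, rfl⟩)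

/-- Frattini argument (`Sylow.normalizer_sup_eq_top`): `N(P) ⊔ ker = ⊤`, so `N(P)` maps onto `S`. -/
theorem Mn.normal_sylow (m : Mn φ) {p : ℕ} [Fact p.Prime] (P : Sylow p φ.ker) :
    ((P : Subgroup φ.ker).map φ.ker.subtype).Normal := by
  rw [← normalizer_eq_top_iff]
  apply m.min
  have h := congrArg (map φ) (Sylow.normalizer_sup_eq_top P)
  rwa [Subgroup.map_sup, (map_eq_bot_iff φ.ker).2 le_rfl, sup_bot_eq,
    map_top_of_surjective φ m.surj] at h

/-- `zpowers x` is an `r`-group acting on `N` by conjugation; `|N| = p ^ a`, the fixed points form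
the subgroup `N ⊓ C(x)` of order `p ^ b`, and `p ^ a ≡ p ^ b [MOD r]`
(`IsPGroup.card_modEq_card_fixedPoints`), so `p ^ (a - b) % r = 1` and `a = b`. -/
theorem cent_of_card {p r n k : ℕ} (hp : p.Prime) (hr : r.Prime) (hne : p ≠ r) {N : Subgroup X}
    {x : X} (hx : x ∈ normalizer (N : Set X)) (hk : x ^ r ^ k = 1) (hN : IsPGroup p N)
    (hc : ¬ p ^ (n + 1) ∣ Nat.card N) (h : ∀ i, 1 ≤ i → i ≤ n → p ^ i % r ≠ 1) :
    x ∈ centralizer (N : Set X) := by
  haveI := Fact.mk hp
  haveI := Fact.mk hr
  have hP : IsPGroup r (zpowers x) := by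
    rintro ⟨_, m, rfl⟩
    refine ⟨k, Subtype.ext ?_⟩
    show (x ^ m) ^ r ^ k = 1
    rw [← zpow_natCast, ← zpow_mul, mul_comm, zpow_mul, zpow_natCast, hk, one_zpow]
  have h1 := Grp.ConjCount.card_modEq hP (N : Set X) fun g hg y hy =>
    (mem_normalizer_iff.1 (zpowers_le.2 hx hg) y).1 hy
  obtain ⟨a, ha⟩ := IsPGroup.iff_card.1 hN
  have h2 : Nat.card ↥(N ⊓ centralizer (zpowers x : Set X)) ∣ p ^ a :=
    ha ▸ card_dvd_of_le inf_le_left
  obtain ⟨b, hb, hb'⟩ := (Nat.dvd_prime_pow hp).1 h2
  have h3 : p ^ a ≡ p ^ b [MOD r] := by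
    rw [← ha, ← hb']
    exact h1
  obtain ⟨i, rfl⟩ := Nat.exists_eq_add_of_le hb
  have hi : i = 0 := by
    by_contra h0
    refine h i (by omega) ?_ ?_
    · by_contra h4
      exact hc (ha ▸ pow_dvd_pow p (by omega))
    · have h4 : p ^ b * p ^ i ≡ p ^ b * 1 [MOD r] := by rwa [mul_one, ← pow_add]
      have h5 := Nat.ModEq.cancel_left_of_coprime
        (((Nat.coprime_primes hr hp).2 hne.symm).pow_right b) h4
      rw [h5, Nat.mod_eq_of_lt hr.one_lt]
  subst hi
  have h4 : N ⊓ centralizer (zpowers x : Set X) = N :=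
    eq_of_le_of_card_ge inf_le_left (by rw [ha, hb']; rfl)
  exact mem_centralizer_iff.2 fun y hy =>
    (mem_centralizer_iff.1 (h4.ge hy).2 x (mem_zpowers x)).symm

/-- an element of prime order lifts to an element of prime power order -/
theorem exists_lift_pow (hs : Function.Surjective φ) {r : ℕ} (hr : r.Prime) {s : S}
    (h : s ^ r = 1) : ∃ x k, φ x = s ∧ x ^ r ^ k = 1 := by
  obtain ⟨x, rfl⟩ := hs s
  obtain ⟨k, m, hm, e⟩ := Nat.exists_eq_pow_mul_and_not_dvd (orderOf_pos x).ne' r hr.ne_one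
  obtain ⟨t, ht⟩ := Nat.exists_mul_mod_eq_one_of_coprime
    ((Nat.coprime_comm.1 ((Nat.Prime.coprime_iff_not_dvd hr).2 hm))) hr.one_lt
  refine ⟨x ^ (m * t), k, ?_, ?_⟩
  · rw [map_pow, pow_eq_pow_mod _ h, ht.2, pow_one]
  · rw [← pow_mul, ← orderOf_dvd_iff_pow_eq_one, e]
    exact ⟨t, by ring⟩

/-- Lift an element of order `r` of `S` to an `r`-element `x` (a power of any preimage);
`cent_of_card` puts `x` into the normal subgroup `C(N)`, which is `⊤` by `Mn.eq_top`. -/
theorem Mn.le_center [IsSimpleGroup S] (m : Mn φ) {p r n : ℕ} (hp : p.Prime) (hr : r.Prime)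
    (hne : p ≠ r) (hd : r ∣ Nat.card S) {N : Subgroup X} [N.Normal] (hN : IsPGroup p N)
    (hc : ¬ p ^ (n + 1) ∣ Nat.card N) (h : ∀ i, 1 ≤ i → i ≤ n → p ^ i % r ≠ 1) :
    N ≤ center X := by
  haveI := Fact.mk hr
  haveI : Finite S := Finite.of_surjective φ m.surj
  obtain ⟨s, hs⟩ := exists_prime_orderOf_dvd_card' r hd
  obtain ⟨x, k, rfl, hk⟩ := exists_lift_pow m.surj hr (hs ▸ pow_orderOf_eq_one s)
  have h1 := cent_of_card hp hr hne (normalizer_eq_top N ▸ mem_top x) hk hN hc h
  have h2 := m.eq_top (centralizer (N : Set X)) h1 fun e => by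
    rw [e, orderOf_one] at hs
    exact hr.ne_one hs.symm
  intro y hy
  exact mem_center_iff.2 fun g => (mem_centralizer_iff.1 (h2.ge (mem_top g)) y hy).symm

theorem exists_gen_ker {n : ℕ} [NeZero n] (hs : Function.Surjective φ) (hc : φ.ker ≤ center X)
    (hp : commutator X = ⊤) (hS : HasCyclicSchurMultiplier S n) :
    ∃ b ∈ φ.ker, b ^ n = 1 ∧ ∀ a ∈ φ.ker, a ∈ zpowers b := by
  obtain ⟨π, hπ⟩ := FGS.HasSchurMultiplier.exists_surjective hS (σ := φ) ⟨hs, hc, hp ▸ le_top⟩
  refine ⟨π (Multiplicative.ofAdd 1), (π _).2, ?_, fun a ha => ?_⟩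
  · rw [← coe_pow, ← map_pow, ← ofAdd_nsmul, nsmul_one, ZMod.natCast_self, ofAdd_zero, map_one,
      coe_one]
  · obtain ⟨z, hz⟩ := hπ ⟨a, ha⟩
    refine ⟨(z.toAdd.val : ℕ), ?_⟩
    show (π (Multiplicative.ofAdd 1) : X) ^ ((z.toAdd.val : ℕ) : ℤ) = a
    rw [zpow_natCast, ← coe_pow, ← map_pow, ← ofAdd_nsmul, nsmul_one, ZMod.natCast_zmod_val,
      ofAdd_toAdd, hz]

/-- `φ` is a stem extension: `FGS.HasSchurMultiplier.exists_surjective` gives a surjection from
`Multiplicative (ZMod 3)` onto the kernel; `b` is the image of `ofAdd 1`. -/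
theorem cov_of_center (hs : Function.Surjective φ) (hc : φ.ker ≤ center X)
    (hp : commutator X = ⊤) (hS : HasCyclicSchurMultiplier S 3) : ∃ b, Cov φ b := by
  obtain ⟨b, hb, h3, h⟩ := exists_gen_ker hs hc hp hS
  exact ⟨b, hs, mem_center_iff.1 (hc hb), h3, fun a => ⟨h a, fun ha => zpowers_le.2 hb ha⟩⟩

theorem eq_top_of_sylow {K : Type*} [Group K] [Finite K] {H : Subgroup K}
    (h : ∀ p : ℕ, p.Prime → ∃ P : Sylow p K, (P : Subgroup K) ≤ H) : H = ⊤ := by
  rw [← index_eq_one]
  by_contra h1
  obtain ⟨p, hp, hd⟩ := Nat.exists_prime_and_dvd h1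
  haveI := Fact.mk hp
  obtain ⟨P, hP⟩ := h p hp
  exact P.not_dvd_index (hd.trans (index_dvd_of_le hP))

theorem Mn.odd_aux [IsSimpleGroup S] (m : Mn φ) {D : ℕ} (hD : Nat.card φ.ker ∣ D)
    (h : ∀ p : ℕ, p.Prime → p ≠ 2 → p ∣ D → ∃ r n : ℕ, r.Prime ∧ p ≠ r ∧ r ∣ Nat.card S ∧
      ¬ p ^ (n + 1) ∣ D ∧ ∀ i ≤ n, 1 ≤ i → p ^ i % r ≠ 1) :
    ∃ P : Subgroup X, P.Normal ∧ IsPGroup 2 P ∧ P ≤ φ.ker ∧ φ.ker ≤ P ⊔ center X := by
  obtain ⟨P⟩ : Nonempty (Sylow 2 φ.ker) := inferInstance
  refine ⟨_, m.normal_sylow P, P.isPGroup'.map _, map_subtype_le _, ?_⟩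
  rw [← subgroupOf_eq_top]
  refine eq_top_of_sylow fun p hp => ?_
  haveI := Fact.mk hp
  by_cases h2 : p = 2
  · subst h2
    exact ⟨P, fun x hx => mem_sup_left ⟨x, hx, rfl⟩⟩
  obtain ⟨Q⟩ : Nonempty (Sylow p φ.ker) := inferInstance
  refine ⟨Q, fun x hx => mem_sup_right ?_⟩
  haveI := m.normal_sylow Q
  have hQ : IsPGroup p ((Q : Subgroup φ.ker).map φ.ker.subtype) := Q.isPGroup'.map _
  have hd : Nat.card ((Q : Subgroup φ.ker).map φ.ker.subtype) ∣ D :=
    (card_dvd_of_le (map_subtype_le _)).trans hD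
  by_cases hpD : p ∣ D
  · obtain ⟨r, n, hr, hne, h3, h4, h5⟩ := h p hp h2 hpD
    exact m.le_center hp hr hne h3 hQ (fun h6 => h4 (h6.trans hd)) (fun i h6 h7 => h5 i h7 h6)
      ⟨x, hx, rfl⟩
  · rcases hQ.card_eq_or_dvd with h3 | h3
    · rw [card_eq_one] at h3
      have h4 : (x : X) = 1 := mem_bot.1 (h3.le ⟨x, hx, rfl⟩)
      show (x : X) ∈ center X
      rw [h4]
      exact one_mem _
    · exact absurd (h3.trans hd) hpD

theorem prime_mem_of_dvd {p D : ℕ} (hp : p.Prime)
    (h : p ∣ D) (hD : D ∣ [2, 3, 5, 7, 11, 13, 17, 19, 23, 29, 31, 41, 47, 59, 71].prod ^ 46) :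
    p ∈ [2, 3, 5, 7, 11, 13, 17, 19, 23, 29, 31, 41, 47, 59, 71] := by
  obtain ⟨a, ha, h1⟩ := (Prime.dvd_prod_iff hp.prime).1 (hp.dvd_of_dvd_pow (h.trans hD))
  have h2 : a.Prime := by
    simp only [List.mem_cons, List.not_mem_nil, or_false] at ha
    rcases ha with rfl | rfl | rfl | rfl | rfl | rfl | rfl | rfl | rfl | rfl | rfl | rfl | rfl |
      rfl | rfl <;> norm_num
  rwa [(Nat.prime_dvd_prime_iff_eq hp h2).1 h1]

variable {G : Type*} [Group G] [Finite G]

/-- `|ker φ| * |S| = |X|` divides `|G| = 2^46·3^20·5^9·7^6·11^2·13^3·17·19·23·29·31·41·47·59·71`.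
`P` = the Sylow 2-subgroup of the kernel (`Mn.normal_sylow`).  Each Sylow `p`-subgroup `N` of the
kernel, `p` odd, is normal and central by `Mn.le_center`, with `n` = (exponent of `p` in `|G|`) minus
(exponent in `|S|`); if `n = 0` then `N = ⊥`.  Choice of `r`: for `|S| = 50232960 = 2^7·3^5·5·17·19`
take `r = 17`; for `460815505920 = 2^9·3^4·5·7^3·11·19·31` take `r = 31`, but `r = 19` for `p = 5`
(`n = 8`); for `145926144000 = 2^14·3^3·5^3·7·13·29` take `r = 29` (for `p = 7`, `n = 5`), but
`r = 13` for `p = 59`.  Finally an element `k` of the kernel is the product of its 2-part, which lies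
in the normal Sylow subgroup `P`, and its odd part, a product of `p`-elements, each in the normal
Sylow `p`-subgroup (induct on the order, or compare `Nat.card`: every `p`-part of `|ker|` divides
`|ker ⊓ (P ⊔ center)|`). -/
theorem Mn.odd_center [IsSimpleGroup S] (hG : MF G) {A : Subgroup G} {φ : A →* S} (m : Mn φ)
    (hS : Nat.card S = 50232960 ∨ Nat.card S = 460815505920 ∨ Nat.card S = 145926144000) :
    ∃ P : Subgroup A, P.Normal ∧ IsPGroup 2 P ∧ P ≤ φ.ker ∧ φ.ker ≤ P ⊔ center A := by
  have h1 : Nat.card φ.ker * Nat.card S ∣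
      808017424794512875886459904961710757005754368000000000 := by
    rw [← hG.card, ← Nat.card_congr (QuotientGroup.quotientKerEquivOfSurjective φ m.surj).toEquiv,
      mul_comm, ← card_eq_card_quotient_mul_card_subgroup]
    exact card_subgroup_dvd_card A
  rcases hS with hS | hS | hS
  · refine m.odd_aux (D := 16085403384441467830811879390776708300800000000) ?_ fun p hp h2 hd => ?_
    · rw [hS] at h1
      exact Nat.dvd_of_mul_dvd_mul_right (k := 50232960) (by norm_num) (h1.trans (by norm_num))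
    · have h3 := prime_mem_of_dvd hp hd (by norm_num)
      simp only [List.mem_cons, List.not_mem_nil, or_false] at h3
      rw [hS]
      rcases h3 with rfl | rfl | rfl | rfl | rfl | rfl | rfl | rfl | rfl | rfl | rfl | rfl | rfl |
        rfl | rfl
      · exact absurd rfl h2
      · exact ⟨17, 15, by norm_num, by norm_num, by norm_num, by norm_num, by decide⟩
      · exact ⟨17, 8, by norm_num, by norm_num, by norm_num, by norm_num, by decide⟩
      · exact ⟨17, 6, by norm_num, by norm_num, by norm_num, by norm_num, by decide⟩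
      · exact ⟨17, 2, by norm_num, by norm_num, by norm_num, by norm_num, by decide⟩
      · exact ⟨17, 3, by norm_num, by norm_num, by norm_num, by norm_num, by decide⟩
      · exact ⟨19, 0, by norm_num, by norm_num, by norm_num, by norm_num, by decide⟩
      · exact ⟨17, 0, by norm_num, by norm_num, by norm_num, by norm_num, by decide⟩
      · exact ⟨17, 1, by norm_num, by norm_num, by norm_num, by norm_num, by decide⟩
      · exact ⟨17, 1, by norm_num, by norm_num, by norm_num, by norm_num, by decide⟩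
      · exact ⟨17, 1, by norm_num, by norm_num, by norm_num, by norm_num, by decide⟩
      · exact ⟨17, 1, by norm_num, by norm_num, by norm_num, by norm_num, by decide⟩
      · exact ⟨17, 1, by norm_num, by norm_num, by norm_num, by norm_num, by decide⟩
      · exact ⟨17, 1, by norm_num, by norm_num, by norm_num, by norm_num, by decide⟩
      · exact ⟨17, 1, by norm_num, by norm_num, by norm_num, by norm_num, by decide⟩
  · refine m.odd_aux (D := 1753451032819171146797290273269350400000000) ?_ fun p hp h2 hd => ?_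
    · rw [hS] at h1
      exact Nat.dvd_of_mul_dvd_mul_right (k := 460815505920) (by norm_num) (h1.trans (by norm_num))
    · have h3 := prime_mem_of_dvd hp hd (by norm_num)
      simp only [List.mem_cons, List.not_mem_nil, or_false] at h3
      rw [hS]
      rcases h3 with rfl | rfl | rfl | rfl | rfl | rfl | rfl | rfl | rfl | rfl | rfl | rfl | rfl |
        rfl | rfl
      · exact absurd rfl h2
      · exact ⟨31, 16, by norm_num, by norm_num, by norm_num, by norm_num, by decide⟩
      · exact ⟨19, 8, by norm_num, by norm_num, by norm_num, by norm_num, by decide⟩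
      · exact ⟨31, 3, by norm_num, by norm_num, by norm_num, by norm_num, by decide⟩
      · exact ⟨31, 1, by norm_num, by norm_num, by norm_num, by norm_num, by decide⟩
      · exact ⟨31, 3, by norm_num, by norm_num, by norm_num, by norm_num, by decide⟩
      · exact ⟨31, 1, by norm_num, by norm_num, by norm_num, by norm_num, by decide⟩
      · exact ⟨31, 0, by norm_num, by norm_num, by norm_num, by norm_num, by decide⟩
      · exact ⟨31, 1, by norm_num, by norm_num, by norm_num, by norm_num, by decide⟩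
      · exact ⟨31, 1, by norm_num, by norm_num, by norm_num, by norm_num, by decide⟩
      · exact ⟨19, 0, by norm_num, by norm_num, by norm_num, by norm_num, by decide⟩
      · exact ⟨31, 1, by norm_num, by norm_num, by norm_num, by norm_num, by decide⟩
      · exact ⟨31, 1, by norm_num, by norm_num, by norm_num, by norm_num, by decide⟩
      · exact ⟨31, 1, by norm_num, by norm_num, by norm_num, by norm_num, by decide⟩
      · exact ⟨31, 1, by norm_num, by norm_num, by norm_num, by norm_num, by decide⟩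
  · refine m.odd_aux (D := 5537166971221502816427876727570563072000000) ?_ fun p hp h2 hd => ?_
    · rw [hS] at h1
      exact Nat.dvd_of_mul_dvd_mul_right (k := 145926144000) (by norm_num) (h1.trans (by norm_num))
    · have h3 := prime_mem_of_dvd hp hd (by norm_num)
      simp only [List.mem_cons, List.not_mem_nil, or_false] at h3
      rw [hS]
      rcases h3 with rfl | rfl | rfl | rfl | rfl | rfl | rfl | rfl | rfl | rfl | rfl | rfl | rfl |
        rfl | rfl
      · exact absurd rfl h2
      · exact ⟨29, 17, by norm_num, by norm_num, by norm_num, by norm_num, by decide⟩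
      · exact ⟨29, 6, by norm_num, by norm_num, by norm_num, by norm_num, by decide⟩
      · exact ⟨29, 5, by norm_num, by norm_num, by norm_num, by norm_num, by decide⟩
      · exact ⟨29, 2, by norm_num, by norm_num, by norm_num, by norm_num, by decide⟩
      · exact ⟨29, 2, by norm_num, by norm_num, by norm_num, by norm_num, by decide⟩
      · exact ⟨29, 1, by norm_num, by norm_num, by norm_num, by norm_num, by decide⟩
      · exact ⟨29, 1, by norm_num, by norm_num, by norm_num, by norm_num, by decide⟩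
      · exact ⟨29, 1, by norm_num, by norm_num, by norm_num, by norm_num, by decide⟩
      · exact ⟨13, 0, by norm_num, by norm_num, by norm_num, by norm_num, by decide⟩
      · exact ⟨29, 1, by norm_num, by norm_num, by norm_num, by norm_num, by decide⟩
      · exact ⟨29, 1, by norm_num, by norm_num, by norm_num, by norm_num, by decide⟩
      · exact ⟨29, 1, by norm_num, by norm_num, by norm_num, by norm_num, by decide⟩
      · exact ⟨13, 1, by norm_num, by norm_num, by norm_num, by norm_num, by decide⟩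
      · exact ⟨29, 1, by norm_num, by norm_num, by norm_num, by norm_num, by decide⟩

/-- `E.map A.subtype` has order at most `2 ^ 15` by `hG.rank`; `Mn.le_center` with `p = 2`, `n = 15`
and `r = 19` or `29` (orders of `2` are `18` and `28`). -/
theorem Mn.elem_center [IsSimpleGroup S] (hG : MF G) {A : Subgroup G} {φ : A →* S} (m : Mn φ)
    (hS : 19 ∣ Nat.card S ∨ 29 ∣ Nat.card S) {E : Subgroup A} [E.Normal]
    (hE : ∀ x ∈ E, x * x = 1) : E ≤ center A := by
  have h1 : Nat.card E ≤ 2 ^ 15 := by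
    rw [Nat.card_congr (equivMapOfInjective E A.subtype A.subtype_injective).toEquiv]
    refine hG.rank _ ?_
    rintro _ ⟨x, hx, rfl⟩
    rw [← map_mul, hE x hx, map_one]
  have h2 : IsPGroup 2 E := fun x => ⟨1, Subtype.ext (by rw [pow_one, pow_two]; exact hE x x.2)⟩
  have h3 : ¬ 2 ^ (15 + 1) ∣ Nat.card E := fun h => by
    have := Nat.le_of_dvd Nat.card_pos h
    omega
  rcases hS with hS | hS
  · exact m.le_center Nat.prime_two (by norm_num) (by norm_num) hS h2 h3 fun i h4 h5 => by
      interval_cases i <;> norm_num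
  · exact m.le_center Nat.prime_two (by norm_num) (by norm_num) hS h2 h3 fun i h4 h5 => by
      interval_cases i <;> norm_num

/-- The elements of order at most 2 of the centre of `P` form a nontrivial normal subgroup of `A`;
`Mn.elem_center`. -/
theorem Mn.exists_central [IsSimpleGroup S] (hG : MF G) {A : Subgroup G} {φ : A →* S} (m : Mn φ)
    (hS : 19 ∣ Nat.card S ∨ 29 ∣ Nat.card S) {P : Subgroup A} [P.Normal] (hP : IsPGroup 2 P)
    (h1 : P ≠ ⊥) : ∃ e ∈ P, orderOf e = 2 ∧ e ∈ center A := by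
  let E : Subgroup A :=
    { carrier := {x | x ∈ P ∧ x ∈ centralizer (P : Set A) ∧ x * x = 1}
      one_mem' := ⟨one_mem _, one_mem _, mul_one _⟩
      mul_mem' := by
        rintro a b ⟨h1, h2, h3⟩ ⟨h4, h5, h6⟩
        refine ⟨mul_mem h1 h4, mul_mem h2 h5, ?_⟩
        rw [mul_assoc, ← mul_assoc b, mem_centralizer_iff.1 h2 b h4, mul_assoc, h6, mul_one, h3]
      inv_mem' := by
        rintro a ⟨h1, h2, h3⟩
        exact ⟨inv_mem h1, inv_mem h2, by rw [← mul_inv_rev, h3, inv_one]⟩ }
  haveI : E.Normal := ⟨by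
    rintro a ⟨h1, h2, h3⟩ g
    refine ⟨Normal.conj_mem inferInstance a h1 g, Normal.conj_mem inferInstance a h2 g, ?_⟩
    rw [conj_mul, h3, mul_one, mul_inv_cancel]⟩
  have hE := m.elem_center hG hS (E := E) fun x hx => hx.2.2
  haveI := (nontrivial_iff_ne_bot P).2 h1
  haveI := hP.center_nontrivial
  have h2 : 2 ∣ Nat.card (center P) :=
    (hP.to_subgroup (center P)).card_eq_or_dvd.resolve_left Finite.one_lt_card.ne'
  obtain ⟨e, he⟩ := exists_prime_orderOf_dvd_card' 2 h2
  have he' : orderOf ((e : P) : A) = 2 := by rw [orderOf_coe, orderOf_coe, he]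
  refine ⟨_, (e : P).2, he', hE ⟨(e : P).2, mem_centralizer_iff.2 fun y hy => ?_, ?_⟩⟩
  · exact congrArg Subtype.val (mem_center_iff.1 e.2 ⟨y, hy⟩)
  · rw [← pow_two, ← he', pow_orderOf_eq_one]

theorem Mn.comp_equiv {Y : Type*} [Group Y] (m : Mn φ) (e : Y ≃* X) :
    Mn (φ.comp e.toMonoidHom) := by
  refine ⟨m.surj.comp e.surjective, fun H hH => ?_⟩
  rw [← map_map] at hH
  apply map_injective (f := e.toMonoidHom) e.injective
  rw [m.min _ hH, map_top_of_surjective _ e.surjective]

/-- A minimal subgroup, as a subgroup of `G`. -/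
theorem exists_mn' {A : Subgroup G} {φ : A →* S} (h : Function.Surjective φ) :
    ∃ (B : Subgroup G) (χ : B →* S), Mn χ := by
  obtain ⟨H, m⟩ := exists_mn h
  exact ⟨_, _, m.comp_equiv (equivMapOfInjective H A.subtype A.subtype_injective).symm⟩

/-- a central involution of `A` gives `|S| ∣ |C_G(e)|` -/
theorem card_dvd_cent {A : Subgroup G} {φ : A →* S} (h : Function.Surjective φ) {e : A}
    (he : e ∈ center A) : Nat.card S ∣ Nat.card (centralizer ({(e : G)} : Set G)) :=
  (card_dvd_of_surjective φ h).trans (card_dvd_of_le fun g hg =>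
    mem_centralizer_singleton_iff.2 (congrArg Subtype.val (mem_center_iff.1 he ⟨g, hg⟩)))

theorem MF.no_central (hG : MF G) {A : Subgroup G} {φ : A →* S} (h : Function.Surjective φ)
    (hS : 29 ∣ Nat.card S ∨ 7 ^ 3 ∣ Nat.card S) {e : A} (h2 : orderOf e = 2)
    (he : e ∈ center A) : False := by
  have h1 := card_dvd_cent h he
  rcases hG.inv e (by rw [orderOf_coe, h2]) with h3 | ⟨h3, -⟩ <;> rw [h3] at h1 <;>
    rcases hS with hS | hS <;> exact absurd (hS.trans h1) (by norm_num)

/-- `exists_mn`, `Mn.odd_center`.  If `P ≠ ⊥`, a central involution `e` gives `|S| ∣ |C_G(e)|`, but `29`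
divides neither value in `hG.inv`.  So the kernel is central of odd order (its Sylow 2-subgroup is
normal and a 2-group: if it is not `⊥` argue in the same way), and an image of
`Multiplicative (ZMod 2)`, hence trivial. -/
theorem redRu [IsSimpleGroup S] (hG : MF G) (hS : Nat.card S = 145926144000)
    (hm : HasCyclicSchurMultiplier S 2) {A : Subgroup G} {φ : A →* S}
    (h : Function.Surjective φ) : ∃ θ : S →* G, Function.Injective θ := by
  obtain ⟨B, χ, m⟩ := exists_mn' h
  have h29 : 29 ∣ Nat.card S := by rw [hS]; norm_num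
  obtain ⟨P, _, hP, -, hk⟩ := m.odd_center hG (Or.inr (Or.inr hS))
  have hb : P = ⊥ := by
    by_contra h1
    obtain ⟨e, -, h2, h3⟩ := m.exists_central hG (Or.inr h29) hP h1
    exact hG.no_central m.surj (Or.inl h29) h2 h3
  rw [hb, bot_sup_eq] at hk
  obtain ⟨b, hb, h2, h3⟩ := exists_gen_ker m.surj hk
    (m.perfect (Cfsg.Agent.KSG.Pc.commutator_eq_top_of_simple (by rw [hS]; norm_num))) hm
  have h4 : b = 1 := by
    by_contra h1
    exact hG.no_central m.surj (Or.inl h29) (orderOf_eq_prime h2 h1) (hk hb)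
  have h5 : Function.Injective χ := by
    rw [injective_iff_map_eq_one]
    intro a ha
    have := h3 a ha
    rwa [h4, zpowers_one_eq_bot, mem_bot] at this
  exact ⟨B.subtype.comp (MulEquiv.ofBijective χ ⟨h5, m.surj⟩).symm.toMonoidHom,
    B.subtype_injective.comp (MulEquiv.injective _)⟩

/-- As `redRu`: `7 ^ 3` divides neither value in `hG.inv`; `cov_of_center`.  The subgroup is
`H.map A.subtype` (transport along `equivMapOfInjective`). -/
theorem redON [IsSimpleGroup S] (hG : MF G) (hS : Nat.card S = 460815505920)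
    (hm : HasCyclicSchurMultiplier S 3) {A : Subgroup G} {φ : A →* S}
    (h : Function.Surjective φ) : ∃ (B : Subgroup G) (χ : B →* S) (b : B), Cov χ b := by
  obtain ⟨B, χ, m⟩ := exists_mn' h
  obtain ⟨P, _, hP, -, hk⟩ := m.odd_center hG (Or.inr (Or.inl hS))
  have hb : P = ⊥ := by
    by_contra h1
    obtain ⟨e, -, h2, h3⟩ := m.exists_central hG (Or.inl (by rw [hS]; norm_num)) hP h1
    exact hG.no_central m.surj (Or.inr (by rw [hS]; norm_num)) h2 h3
  rw [hb, bot_sup_eq] at hk
  exact ⟨B, χ, cov_of_center m.surj hk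
    (m.perfect (Cfsg.Agent.KSG.Pc.commutator_eq_top_of_simple (by rw [hS]; norm_num))) hm⟩

end Cfsg.Agent.Pari
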