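import Cfsg.Agent.Pari.RedA
import Cfsg.Agent.Solv.Coprime2

/-!
# The 2-part of the kernel of a minimal cover of `J3` inside the Monster (reduction for S2198)

-/

set_option autoImplicit false

namespace Cfsg.Agent.Pari

open Subgroup
open scoped commutatorElement

/-- `N = ∑ i < 9, b ^ i`.  `b ^ i * a ^ m = a ^ (4 ^ i * m) * b ^ i`, so
`∑ j < 19, a ^ j * b ^ i * a ^ (18 * j) = (∑ j < 19, (a ^ m) ^ j) * b ^ i` with `m = 1 + 18 * 4 ^ i`,
prime to `19` for `1 ≤ i ≤ 8`; `(a ^ m - 1) * ∑ (a ^ m) ^ j = 0` (`mul_geom_sum`) and `a` is a power of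
`a ^ m`, so `a - 1` kills these sums.  For `i = 0` the sum is `19`.  Hence
`19 * (a - 1) = (a - 1) * ∑ j, a ^ j * N * a ^ (18 * j) = ∑ j, a ^ j * ((a - 1) * N) * _ = 0`. -/
theorem frob_fix {R : Type*} [Ring R] {a b : R} (ha : a ^ 19 = 1) (hb : b * a = a ^ 4 * b)
    (h2 : (2 : R) = 0) (h : (a - 1) * ∑ i ∈ Finset.range 9, b ^ i = 0) : a = 1 := by
  have h1 : ∀ i m : ℕ, b ^ i * a ^ m = a ^ (4 ^ i * m) * b ^ i := by
    have h0 : ∀ m : ℕ, b * a ^ m = a ^ (4 * m) * b := by
      intro m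
      induction m with
      | zero => simp
      | succ m ih => rw [pow_succ, ← mul_assoc, ih, mul_assoc, hb, ← mul_assoc, ← pow_add, mul_add]
    intro i
    induction i with
    | zero => simp
    | succ i ih =>
      intro m
      rw [pow_succ, mul_assoc, h0, ← mul_assoc, ih, mul_assoc, ← pow_succ, pow_succ 4, mul_assoc]
  have h3 : ∀ m : ℕ, ¬ 19 ∣ m → (a - 1) * ∑ j ∈ Finset.range 19, (a ^ m) ^ j = 0 := by
    intro m hm
    obtain ⟨t, -, ht⟩ := Nat.exists_mul_mod_eq_one_of_coprime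
      (Nat.coprime_comm.1 ((Nat.Prime.coprime_iff_not_dvd (by norm_num : Nat.Prime 19)).2 hm))
      (by norm_num)
    have h4 : (a ^ m) ^ t = a := by rw [← pow_mul, pow_eq_pow_mod _ ha, ht, pow_one]
    have h5 : (a ^ m) ^ 19 = 1 := by rw [← pow_mul, mul_comm, pow_mul, ha, one_pow]
    rw [← h4, ← geom_sum_mul, h4, mul_assoc, mul_geom_sum, h5, sub_self, mul_zero]
  have h4 : (a - 1) * ∑ j ∈ Finset.range 19,
      a ^ j * (∑ i ∈ Finset.range 9, b ^ i) * a ^ (18 * j) = 0 := by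
    rw [Finset.mul_sum]
    refine Finset.sum_eq_zero fun j _ => ?_
    have h5 : (a - 1) * a ^ j = a ^ j * (a - 1) := by rw [sub_mul, mul_sub, ← pow_succ, ← pow_succ']; simp
    rw [← mul_assoc, ← mul_assoc, h5, mul_assoc (a ^ j), h, mul_zero, zero_mul]
  have h5 : ∑ j ∈ Finset.range 19, a ^ j * (∑ i ∈ Finset.range 9, b ^ i) * a ^ (18 * j) =
      ∑ i ∈ Finset.range 9, (∑ j ∈ Finset.range 19, (a ^ (1 + 4 ^ i * 18)) ^ j) * b ^ i := by
    simp only [Finset.mul_sum, Finset.sum_mul]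
    rw [Finset.sum_comm]
    refine Finset.sum_congr rfl fun i _ => Finset.sum_congr rfl fun j _ => ?_
    rw [mul_assoc, h1, ← mul_assoc, ← pow_add, ← pow_mul]
    congr 2
    ring
  rw [h5, Finset.mul_sum, Finset.sum_range_succ', Finset.sum_eq_zero, zero_add] at h4
  · simp only [pow_zero, one_mul, mul_one, Nat.reduceAdd, ha, one_pow, Finset.sum_const,
      Finset.card_range, nsmul_eq_mul] at h4
    have h6 : ((19 : ℕ) : R) = 1 := by
      rw [show (19 : ℕ) = 1 + 2 * 9 from rfl, Nat.cast_add, Nat.cast_mul, Nat.cast_two, h2,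
        zero_mul, add_zero, Nat.cast_one]
    rwa [h6, mul_one, sub_eq_zero] at h4
  · intro i hi
    rw [← mul_assoc, h3, zero_mul]
    rw [Finset.mem_range] at hi
    interval_cases i <;> norm_num

theorem exists_fix_frob {V : Type*} [CommGroup V] (h2 : ∀ v : V, v * v = 1) {a b : MulAut V}
    (ha : a ^ 19 = 1) (h9 : b ^ 9 = 1) (hb : b * a = a ^ 4 * b) (hne : a ≠ 1) :
    ∃ v, b v = v ∧ a v ≠ v := by
  by_contra hc
  push Not at hc
  let f : MulAut V →* AddMonoid.End (Additive V) :=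
    { toFun := fun ψ => MonoidHom.toAdditive ψ.toMonoidHom
      map_one' := rfl
      map_mul' := fun _ _ => rfl }
  have h1 : f a = 1 := by
    refine frob_fix (b := f b) (by rw [← map_pow, ha, map_one])
      (by rw [← map_pow, ← map_mul, ← map_mul, hb]) ?_ ?_
    · refine AddMonoidHom.ext fun v => ?_
      rw [← one_add_one_eq_two]
      exact h2 v.toMul
    · refine AddMonoidHom.ext fun v => ?_
      have h3 : (f b - 1) * ∑ i ∈ Finset.range 9, f b ^ i = 0 := by
        rw [mul_geom_sum, ← map_pow, h9, map_one, sub_self]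
      have h4 : f b ((∑ i ∈ Finset.range 9, f b ^ i) v) - (∑ i ∈ Finset.range 9, f b ^ i) v = 0 :=
        DFunLike.congr_fun h3 v
      show f a ((∑ i ∈ Finset.range 9, f b ^ i) v) - (∑ i ∈ Finset.range 9, f b ^ i) v = 0
      rw [sub_eq_zero] at h4 ⊢
      exact hc _ h4
  exact hne (MulEquiv.ext fun v => DFunLike.congr_fun h1 (Additive.ofMul v))

theorem comm_congr {X : Type*} [Group X] {u u' w w' : X}
    (h1 : (u : X ⧸ center X) = u') (h2 : (w : X ⧸ center X) = w') : ⁅u, w⁆ = ⁅u', w'⁆ := by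
  rw [QuotientGroup.eq] at h1 h2
  obtain ⟨y, hy, rfl⟩ : ∃ y ∈ center X, u' = u * y := ⟨_, h1, by group⟩
  obtain ⟨z, hz, rfl⟩ : ∃ z ∈ center X, w' = w * z := ⟨_, h2, by group⟩
  have e1 := mem_center_iff.1 hy
  have e2 := mem_center_iff.1 hz
  simp only [commutatorElement_def]
  calc u * w * u⁻¹ * w⁻¹ = u * (w * z * y) * y⁻¹ * (z⁻¹ * u⁻¹) * w⁻¹ := by group
    _ = u * y * (w * z) * (u * y)⁻¹ * (w * z)⁻¹ := by
      rw [e1 (w * z), ← mem_center_iff.1 (inv_mem hz) u⁻¹]; group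

variable {S G : Type*} [Group S] [Group G] [Finite G]

/-- Write `X = A`, `Z = center X`.  Suppose not, and take `W` minimal among the normal subgroups of
`X` inside `P` that are not central.
(a) `⁅W, P⁆` is normal and `< W` (`P` is nilpotent), so `⁅W, P⁆ ≤ Z`; in particular `⁅W, W⁆ ≤ Z`.
(b) `{u ∈ W | u * u ∈ Z}` is a normal subgroup, not inside `Z` (`W / (W ⊓ Z)` is a nontrivial
2-group), so it is `W`.
(c) `C = {g | ∀ u ∈ W, ⁅g, u⁆ ∈ Z}` is a normal subgroup containing `P ⊔ Z ≥ ker φ`.  If `C = ⊤`, the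
three subgroups lemma (`commutator_commutator_eq_bot_of_rotate`) and `Mn.perfect` make `W` central.
So by `Mn.eq_top`, `C = ker φ`.
(d) Lift `c.x` to a 19-element `x` (a power of a preimage: or take any preimage `x0` of order
`19 ^ k * m`, choose `n ≡ 1 mod 19`, `m ∣ n`, `x = x0 ^ n`), and `c.y` to `y`.  `V = W / (W ⊓ Z)` is
commutative of exponent 2, `X` acts on it with kernel `C`; `a`, `b` = images of `x`, `y` in
`AddMonoid.End (Additive V)` satisfy `a ^ 19 = 1`, `b ^ 9 = 1`, `b * a = a ^ 4 * b`, `a ≠ 1`.  By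
`frob_fix` some `w` has `a (N w) ≠ N w`, and `b (N w) = N w`.  So there is `v ∈ W` with
`⁅y, v⁆ ∈ Z`, `⁅x, v⁆ ∉ Z`.
(e) `v j = x ^ j * v * x ^ (-j)`, `f j = ⁅v, v j⁆ ∈ Z`.  Commutators of elements of `W` are central,
bimultiplicative, of order at most 2, only depend on the classes modulo `Z` and are fixed by
conjugation.  So `f j = f (4 * j)` (conjugate by `y`), `f (j + 19) = f j`, `f (19 - j) = f j`
(conjugate by `x ^ j`), `f 0 = 1`; `4` and `-1` generate the units mod `19`, so all `f j`, and all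
`⁅v i, v j⁆`, lie in `zpowers d`, `d = f 1`.
(f) `U1 = closure (range v)` has all commutators in `zpowers d`; `U = {u ∈ U1 | u * u ∈ zpowers d}` is
a subgroup normalised by `x`, containing `δ = v⁻¹ * v 1` (`(v 1) ^ 2 = v ^ 2` is central).  If `x`
centralised `δ` then `v j = v * δ ^ j`, so `δ ^ (19 ^ k) = 1 = δ ^ 4`, `δ = 1`: false.  By
`cent_of_card` (`p = 2`, `r = 19`, `n = 17`), `2 ^ 18 ∣ |U|`.
(g) `e = d` if `d ≠ 1`, else any central involution (`Mn.exists_central`).  `A ≤ C_G(e)`, so `19`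
divides `|C_G(e)|`, and the second case of `hG.inv` bounds `|U.map A.subtype|` by `2 ^ 15`. -/
theorem Mn.two_center [IsSimpleGroup S] (hG : MF G) (hS : Nat.card S = 50232960) (c : CJ4 S)
    {A : Subgroup G} {φ : A →* S} (m : Mn φ) {P : Subgroup A} [P.Normal] (hP : IsPGroup 2 P)
    (h : φ.ker ≤ P ⊔ center A) : P ≤ center A := by
  by_contra hn
  obtain ⟨W, ⟨hWn, hWP, hWZ⟩, hmin⟩ := (wellFounded_lt (α := Subgroup A)).has_min
    {W | W.Normal ∧ W ≤ P ∧ ¬ W ≤ center A} ⟨P, inferInstance, le_rfl, hn⟩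
  have hperf := m.perfect (KSG.Pc.commutator_eq_top_of_simple (by rw [hS]; norm_num))
  have h19 : 19 ∣ Nat.card S := by rw [hS]; norm_num
  have hlt : ∀ W' : Subgroup A, W'.Normal → W' < W → W' ≤ center A := fun W' h1 h2 => by
    by_contra h3
    exact hmin W' ⟨h1, h2.le.trans hWP, h3⟩ h2
  -- (a)
  have hWP' : ⁅W, P⁆ ≤ center A := hlt _ inferInstance (Solv.commutator_lt_of_isPGroup
    (hP.to_le hWP) hP (by rw [normalizer_eq_top]; exact le_top) fun e => hWZ (e ▸ bot_le))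
  let π := QuotientGroup.mk' (center A)
  have hπ : ∀ u, π u = 1 ↔ u ∈ center A := fun u => QuotientGroup.eq_one_iff u
  have hcm : ∀ u ∈ W, ∀ g ∈ P, Commute (π u) (π g) := fun u hu g hg => by
    rw [← commutatorElement_eq_one_iff_commute, ← map_commutatorElement, hπ]
    exact hWP' (commutator_mem_commutator hu hg)
  -- (b)
  have hsq : ∀ u ∈ W, u * u ∈ center A := by
    let W₂ : Subgroup A :=
      { carrier := {u | u ∈ W ∧ π u * π u = 1}
        one_mem' := ⟨one_mem _, by rw [map_one, mul_one]⟩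
        mul_mem' := by
          rintro a b ⟨h1, h2⟩ ⟨h3, h4⟩
          refine ⟨mul_mem h1 h3, ?_⟩
          rw [map_mul, mul_assoc, ← mul_assoc (π b), (hcm b h3 a (hWP h1)).eq, mul_assoc, h4,
            mul_one, h2]
        inv_mem' := by
          rintro a ⟨h1, h2⟩
          exact ⟨inv_mem h1, by rw [map_inv, ← mul_inv_rev, h2, inv_one]⟩ }
    have hn2 : W₂.Normal := ⟨by
      rintro a ⟨h1, h2⟩ g
      refine ⟨hWn.conj_mem a h1 g, ?_⟩
      rw [map_mul, map_mul, map_inv, conj_mul, h2, mul_one, mul_inv_cancel]⟩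
    have hle : W₂ ≤ W := fun u hu => hu.1
    rcases hle.eq_or_lt with e | e
    · intro u hu
      rw [← hπ, map_mul]
      exact (e.ge hu).2
    · exfalso
      apply hWZ
      intro u hu
      obtain ⟨k, hk⟩ := hP ⟨u, hWP hu⟩
      have hk' : u ^ 2 ^ k ∈ center A := by
        rw [show u ^ 2 ^ k = 1 from congrArg Subtype.val hk]; exact one_mem _
      clear hk
      induction k with
      | zero => simpa using hk'
      | succ k ih =>
        refine ih (hlt _ hn2 e ⟨pow_mem hu _, ?_⟩)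
        rw [← map_mul, hπ, ← pow_two, ← pow_mul, ← pow_succ]
        exact hk'
  -- (c)
  haveI hVn : (W.map π).Normal := hWn.map π (QuotientGroup.mk'_surjective _)
  let ρ : A →* MulAut (W.map π) := MulAut.conjNormal.comp π
  have hρ : ∀ g, ρ g = 1 ↔ ∀ u ∈ W, Commute (π g) (π u) := fun g => by
    constructor
    · intro h1 u hu
      have h2 : π g * π u * (π g)⁻¹ = π u :=
        congrArg Subtype.val (DFunLike.congr_fun h1 (⟨π u, u, hu, rfl⟩ : W.map π))
      exact mul_inv_eq_iff_eq_mul.1 h2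
    · intro h1
      refine MulEquiv.ext ?_
      rintro ⟨_, u, hu, rfl⟩
      exact Subtype.ext (mul_inv_eq_iff_eq_mul.2 (h1 u hu).eq)
  have hk1 : φ.ker ≤ ρ.ker := by
    refine h.trans (sup_le (fun g hg => (hρ g).2 fun u hu => (hcm u hu g hg).symm) fun g hg => ?_)
    show MulAut.conjNormal (π g) = 1
    rw [(hπ g).2 hg, map_one]
  have hk2 : ∀ g, ρ g = 1 → φ g = 1 := by
    intro g hg
    by_contra h1
    have h2 := m.eq_top ρ.ker hg h1
    have h3 : ⁅(⊤ : Subgroup A), W⁆ ≤ center A := commutator_le.2 fun g _ u hu => by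
      rw [← hπ, map_commutatorElement, commutatorElement_eq_one_iff_commute]
      exact (hρ g).1 (h2.ge (mem_top g)) u hu
    have h4 : ⁅⁅(⊤ : Subgroup A), W⁆, (⊤ : Subgroup A)⁆ = ⊥ :=
      commutator_eq_bot_iff_le_centralizer.2 (h3.trans (center_le_centralizer _))
    have h5 := commutator_commutator_eq_bot_of_rotate h4 (by rwa [commutator_comm W])
    rw [← _root_.commutator_def, hperf, commutator_comm, commutator_eq_bot_iff_le_centralizer,
      coe_top, centralizer_univ] at h5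
    exact hWZ h5
  have hk3 : ∀ g g', φ g = φ g' → ρ g = ρ g' := fun g g' e => by
    rw [← mul_inv_eq_one, ← map_inv, ← map_mul]
    exact hk1 (show φ (g * g'⁻¹) = 1 by rw [map_mul, map_inv, e, mul_inv_cancel])
  have hk4 : ∀ g g', φ g = φ g' → ∀ u ∈ W, π (g * u * g⁻¹) = π (g' * u * g'⁻¹) := fun g g' e u hu => by
    have h2 : π g * π u * (π g)⁻¹ = π g' * π u * (π g')⁻¹ :=
      congrArg Subtype.val (DFunLike.congr_fun (hk3 g g' e) (⟨π u, u, hu, rfl⟩ : W.map π))
    simpa only [map_mul, map_inv] using h2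
  -- (d)
  have hx19 : c.x ^ 19 = 1 := c.x19 ▸ pow_orderOf_eq_one c.x
  obtain ⟨x, k, hx, hxk⟩ := exists_lift_pow m.surj (by norm_num : Nat.Prime 19) hx19
  obtain ⟨y, hy⟩ := m.surj c.y
  obtain ⟨v, hv, hvy, hvx⟩ : ∃ v ∈ W, π (y * v * y⁻¹) = π v ∧ π (x * v * x⁻¹) ≠ π v := by
    letI : CommGroup (W.map π) :=
      { (inferInstance : Group (W.map π)) with
        mul_comm := by
          rintro ⟨_, a, ha, rfl⟩ ⟨_, b, hb, rfl⟩
          exact Subtype.ext (hcm a ha b (hWP hb)).eq }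
    obtain ⟨⟨_, v, hv, rfl⟩, h1, h2⟩ := exists_fix_frob (V := W.map π) (a := ρ x) (b := ρ y)
      (by
        rintro ⟨_, a, ha, rfl⟩
        exact Subtype.ext (show π a * π a = 1 by rw [← map_mul, hπ]; exact hsq a ha))
      (by rw [← map_pow]; exact hk1 (show φ (x ^ 19) = 1 by rw [map_pow, hx, hx19]))
      (by rw [← map_pow]; exact hk1 (show φ (y ^ 9) = 1 by rw [map_pow, hy, c.y9]))
      (by
        rw [← map_pow, ← map_mul, ← map_mul]
        exact hk3 _ _ (by rw [map_mul, map_mul, map_pow, hx, hy, ← c.yx, inv_mul_cancel_right]))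
      (fun e => by
        have h1 := c.x19
        rw [← hx, hk2 x e, orderOf_one] at h1
        omega)
    refine ⟨v, hv, ?_, fun e => h2 (Subtype.ext ?_)⟩
    · rw [map_mul, map_mul, map_inv]
      exact congrArg Subtype.val h1
    · rw [map_mul, map_mul, map_inv] at e
      exact e
  -- (e)
  obtain ⟨w, hw⟩ : ∃ w : ℕ → A, ∀ j, w j = x ^ j * v * (x ^ j)⁻¹ := ⟨_, fun _ => rfl⟩
  have hwW : ∀ j, w j ∈ W := fun j => hw j ▸ hWn.conj_mem v hv _
  have hw0 : w 0 = v := by rw [hw]; group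
  have hwc : ∀ i j, x ^ i * w j * (x ^ i)⁻¹ = w (i + j) := fun i j => by rw [hw, hw]; group
  have hwm : ∀ i j, i ≡ j [MOD 19] → π (w i) = π (w j) := fun i j e => by
    rw [hw, hw]
    exact hk4 _ _ (by rw [map_pow, map_pow, hx, pow_eq_pow_iff_modEq, c.x19]; exact e) v hv
  have hinv : ∀ a ∈ W, ∀ b ∈ W, ∀ g, ⁅g * a * g⁻¹, g * b * g⁻¹⁆ = ⁅a, b⁆ := fun a ha b hb g => by
    rw [← conjugate_commutatorElement,
      mem_center_iff.1 (hWP' (commutator_mem_commutator ha (hWP hb))) g, mul_inv_cancel_right]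
  have hf4 : ∀ j, ⁅v, w (4 * j)⁆ = ⁅v, w j⁆ := fun j => by
    rw [← hinv v hv _ (hwW j) y]
    refine comm_congr hvy.symm ?_
    have h1 := hk4 (y * x ^ j) (x ^ (4 * j) * y) (by
      rw [map_mul, map_mul, map_pow, map_pow, hx, hy, pow_mul, ← c.yx, conj_pow,
        inv_mul_cancel_right]) v hv
    show π _ = π _
    calc π (w (4 * j)) = π (x ^ (4 * j)) * π v * (π (x ^ (4 * j)))⁻¹ := by
          rw [hw, map_mul, map_mul, map_inv]
      _ = π (x ^ (4 * j) * y * v * (x ^ (4 * j) * y)⁻¹) := by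
          rw [← hvy, ← map_inv, ← map_mul, ← map_mul]; congr 1; group
      _ = π (y * w j * y⁻¹) := by rw [← h1, hw]; congr 1; group
  have hf18 : ∀ j, ⁅v, w (18 * j)⁆ = ⁅v, w j⁆⁻¹ := fun j => by
    rw [← hinv v hv _ (hwW _) (x ^ j), commutatorElement_inv, hwc, ← hw]
    refine comm_congr rfl ?_
    rw [← hw0]
    exact hwm _ _ (Nat.modEq_zero_iff_dvd.2 ⟨j, by ring⟩)
  have hfp : ∀ i, ⁅v, w (4 ^ i)⁆ = ⁅v, w 1⁆ := fun i => by
    induction i with
    | zero => rfl
    | succ i ih => rw [pow_succ', hf4, ih]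
  obtain ⟨d, hd⟩ : ∃ d, d = ⁅v, w 1⁆ := ⟨_, rfl⟩
  have hfD : ∀ j, ⁅v, w j⁆ ∈ zpowers d := fun j => by
    have h1 : ∀ j < 19, j = 0 ∨ ∃ i < 9, 4 ^ i % 19 = j ∨ 18 * 4 ^ i % 19 = j := by decide
    rcases h1 (j % 19) (Nat.mod_lt _ (by norm_num)) with e | ⟨i, -, e | e⟩
    · rw [comm_congr rfl (hwm j 0 e), hw0, commutatorElement_self]
      exact one_mem _
    · rw [comm_congr rfl (hwm j (4 ^ i) e.symm), hfp, ← hd]
      exact mem_zpowers d
    · rw [comm_congr rfl (hwm j (18 * 4 ^ i) e.symm), hf18, hfp, ← hd]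
      exact inv_mem (mem_zpowers d)
  have hwD : ∀ i j, ⁅w i, w j⁆ ∈ zpowers d := fun i j => by
    have h1 : π (w j) = π (w (i + (j + 18 * i))) :=
      hwm _ _ ((Nat.modEq_iff_dvd' (by omega)).2 ⟨i, by omega⟩)
    rw [comm_congr rfl h1, ← hwc, hw i, hinv v hv _ (hwW _)]
    exact hfD _
  have hdZ : d ∈ center A := hd ▸ hWP' (commutator_mem_commutator hv (hWP (hwW 1)))
  have hdd : d * d = 1 := by
    have h1 : ⁅v * v, w 1⁆ = v * d * v⁻¹ * d := by rw [hd]; simp only [commutatorElement_def]; group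
    rw [mem_center_iff.1 hdZ v, mul_inv_cancel_right] at h1
    rw [← h1, commutatorElement_eq_one_iff_mul_comm]
    exact (mem_center_iff.1 (hsq v hv) _).symm
  -- (f)
  have hDZ : zpowers d ≤ center A := zpowers_le.2 hdZ
  haveI : (zpowers d).Normal := ⟨fun a ha g => by
    rwa [mem_center_iff.1 (hDZ ha) g, mul_inv_cancel_right]⟩
  let ψ := QuotientGroup.mk' (zpowers d)
  have hψ : ∀ u, ψ u = 1 ↔ u ∈ zpowers d := fun u => QuotientGroup.eq_one_iff u
  have hU1 : ∀ a ∈ closure (Set.range w), ∀ b ∈ closure (Set.range w), Commute (ψ a) (ψ b) := by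
    have h1 : ∀ i, ∀ b ∈ closure (Set.range w), Commute (ψ (w i)) (ψ b) := fun i b hb => by
      induction hb using closure_induction with
      | mem b hb =>
        obtain ⟨j, rfl⟩ := hb
        rw [← commutatorElement_eq_one_iff_commute, ← map_commutatorElement, hψ]
        exact hwD i j
      | one => rw [map_one]; exact Commute.one_right _
      | mul a b _ _ ha hb => rw [map_mul]; exact ha.mul_right hb
      | inv a _ ha => rw [map_inv]; exact ha.inv_right
    intro a ha b hb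
    induction ha using closure_induction with
    | mem a ha =>
      obtain ⟨i, rfl⟩ := ha
      exact h1 i b hb
    | one => rw [map_one]; exact Commute.one_left _
    | mul a b _ _ ha hb => rw [map_mul]; exact ha.mul_left hb
    | inv a _ ha => rw [map_inv]; exact ha.inv_left
  have hU1W : closure (Set.range w) ≤ W := (closure_le _).2 (by rintro _ ⟨j, rfl⟩; exact hwW j)
  let U : Subgroup A :=
    { carrier := {u | u ∈ closure (Set.range w) ∧ ψ u * ψ u = 1}
      one_mem' := ⟨one_mem _, by rw [map_one, mul_one]⟩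
      mul_mem' := by
        rintro a b ⟨h1, h2⟩ ⟨h3, h4⟩
        refine ⟨mul_mem h1 h3, ?_⟩
        rw [map_mul, mul_assoc, ← mul_assoc (ψ b), (hU1 b h3 a h1).eq, mul_assoc, h4,
          mul_one, h2]
      inv_mem' := by
        rintro a ⟨h1, h2⟩
        exact ⟨inv_mem h1, by rw [map_inv, ← mul_inv_rev, h2, inv_one]⟩ }
  have hxU : x ∈ normalizer (U : Set A) := by
    refine mem_normalizer_fintype ?_
    rintro u ⟨h1, h2⟩
    refine ⟨?_, by rw [map_mul, map_mul, map_inv, conj_mul, h2, mul_one, mul_inv_cancel]⟩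
    clear h2
    induction h1 using closure_induction with
    | mem a ha =>
      obtain ⟨i, rfl⟩ := ha
      exact subset_closure ⟨1 + i, by rw [← hwc, pow_one]⟩
    | one => rw [mul_one, mul_inv_cancel]; exact one_mem _
    | mul a b _ _ ha hb => rw [← conj_mul]; exact mul_mem ha hb
    | inv a _ ha => rw [← conj_inv]; exact inv_mem ha
  have hv1 : v ∈ closure (Set.range w) := subset_closure ⟨0, hw0⟩
  have hw1 : w 1 ∈ closure (Set.range w) := subset_closure ⟨1, rfl⟩
  have hδ : v⁻¹ * w 1 ∈ U := by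
    refine ⟨mul_mem (inv_mem hv1) hw1, ?_⟩
    have h1 : w 1 * w 1 = v * v := by
      rw [hw, conj_mul, mem_center_iff.1 (hsq v hv), mul_inv_cancel_right]
    rw [map_mul, mul_assoc, ← mul_assoc (ψ (w 1)), (hU1 _ hw1 _ (inv_mem hv1)).eq, mul_assoc,
      ← map_mul, h1, ← map_mul, ← map_mul]
    rw [inv_mul_cancel_left, inv_mul_cancel, map_one]
  have hUP : U ≤ P := fun u hu => hWP (hU1W hu.1)
  -- (g)
  obtain ⟨e, he2, heZ, hde⟩ : ∃ e : A, orderOf e = 2 ∧ e ∈ center A ∧ d ∈ zpowers e := by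
    by_cases h1 : d = 1
    · obtain ⟨e, -, h2, h3⟩ := m.exists_central hG (Or.inl h19) hP fun e => hn (e ▸ bot_le)
      exact ⟨e, h2, h3, h1 ▸ one_mem _⟩
    · exact ⟨d, orderOf_eq_prime (by rw [pow_two, hdd]) h1, hdZ, mem_zpowers d⟩
  have hUc : Nat.card U ≤ 2 ^ 15 := by
    rcases hG.inv e (by rw [orderOf_coe, he2]) with h1 | ⟨-, h1⟩
    · have h2 := h19.trans (card_dvd_cent m.surj heZ)
      rw [h1] at h2
      exact absurd h2 (by norm_num)
    · rw [Nat.card_congr (equivMapOfInjective U A.subtype A.subtype_injective).toEquiv]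
      refine h1 _ ?_ ?_
      · rintro _ ⟨u, -, rfl⟩
        exact mem_centralizer_singleton_iff.2 (congrArg Subtype.val (mem_center_iff.1 heZ u))
      · rintro _ ⟨u, hu, rfl⟩
        obtain ⟨n, hn⟩ := zpowers_le.2 hde ((hψ _).1 ((map_mul ψ u u).trans hu.2))
        exact ⟨n, congrArg Subtype.val hn⟩
  have hxc := cent_of_card (n := 17) Nat.prime_two (by norm_num) (by norm_num) hxU hxk (hP.to_le hUP)
    (fun h1 => by have := Nat.le_of_dvd Nat.card_pos h1; omega)
    (fun i h4 h5 => by interval_cases i <;> norm_num)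
  obtain ⟨δ, hδ'⟩ : ∃ δ, δ = v⁻¹ * w 1 := ⟨_, rfl⟩
  rw [← hδ'] at hδ
  have hc : Commute δ x := mem_centralizer_iff.1 hxc δ hδ
  have h1 : ∀ j, w j = v * δ ^ j := fun j => by
    induction j with
    | zero => rw [hw0, pow_zero, mul_one]
    | succ j ih =>
      rw [add_comm j 1, ← hwc, ih, ← conj_mul, ← hw, pow_one, ← (hc.pow_left j).eq,
        mul_inv_cancel_right, pow_add, pow_one, ← mul_assoc, hδ', mul_inv_cancel_left]
  have h2 : δ ^ 19 ^ k = 1 := by
    have := h1 (19 ^ k)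
    rw [hw, hxk, one_mul, inv_one, mul_one] at this
    exact mul_eq_left.1 this.symm
  obtain ⟨l, hl⟩ := hP ⟨δ, hUP hδ⟩
  have h3 : δ ^ 2 ^ l = 1 := congrArg Subtype.val hl
  have h4 : δ = 1 := (pow_eq_one_iff_of_coprime
    (Nat.Coprime.pow k l (by norm_num : Nat.Coprime 19 2))).1 ⟨h2, h3⟩
  apply hvx
  have h5 := h1 1
  rw [hw, h4, pow_one, one_pow, mul_one] at h5
  rw [h5]

/-- `exists_mn'`, `Mn.odd_center`, `Mn.two_center`, `cov_of_center`. -/
theorem redJ3 [IsSimpleGroup S] (hG : MF G) (hS : Nat.card S = 50232960)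
    (hm : HasCyclicSchurMultiplier S 3) (c : CJ4 S) {A : Subgroup G} {φ : A →* S}
    (h : Function.Surjective φ) : ∃ (B : Subgroup G) (χ : B →* S) (b : B), Cov χ b := by
  obtain ⟨B, χ, m⟩ := exists_mn' h
  obtain ⟨P, _, hP, -, hk⟩ := m.odd_center hG (Or.inl hS)
  exact ⟨B, χ, cov_of_center m.surj (hk.trans (sup_le (m.two_center hG hS c hP hk) le_rfl))
    (m.perfect (KSG.Pc.commutator_eq_top_of_simple (by rw [hS]; norm_num))) hm⟩

end Cfsg.Agent.Pari
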