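import Cfsg.Agent.Pari.Loc

/-!
# `Ru` does not lie in a group of Monster type
-/

set_option autoImplicit false

namespace Cfsg.Agent.Pari

open Subgroup Cfsg Cfsg.Spor Cfsg.Agent.TT Cfsg.Agent.Spor Cfsg.Agent.Spor.Leech Cfsg.Agent.LES
  Cfsg.Agent.LES.Co Cfsg.Agent.Mon Cfsg.Agent.XSC.C1 Cfsg.Agent.Mon.LC

theorem not_fix_13 {y : Co0} (hy : orderOf y = 13) {r : leechLattice} (hr : nm r = 32) : y • r ≠ r :=
  fun e => by
    have := (MulAction.stabilizer Co0 r).orderOf_dvd_natCard (x := y) e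
    rw [hy, card_stab_32 hr] at this
    norm_num at this

theorem not_comm_13 {y g : Co0} (hy : orderOf y = 13) (e : g * y = y * g)
    (h : ¬ 13 ∣ {r : leechLattice | nm r = 32 ∧ g • r = -r}.ncard) : False := by
  obtain ⟨r, hr, e⟩ := exists_fix (k := 1) (g := y) (by norm_num) (hy ▸ by simp) h fun r hr =>
    ⟨(nm_smul y r).trans hr.1, by rw [← mul_smul, e, mul_smul, hr.2, smul_neg]⟩
  exact not_fix_13 hy hr.1 e

variable {G : Type} [Group G] [Finite G] {z : G} {Q : Subgroup G}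
  {π : centralizer ({z} : Set G) →* Co1} {ψ : leechLattice → G}

theorem noRu_aux (h : If0 z Q π ψ) (c : CRu G) (ht : c.t = z) : False := by
  have : Fact (Nat.Prime 13) := ⟨by norm_num⟩
  have y13 : c.y ^ 13 = 1 := c.y13 ▸ pow_orderOf_eq_one _
  have lift : ∀ π' ψ', If0 z Q π' ψ' → ∃ Y, Ov π' c.y Y ∧ Y ^ 13 = 1 ∧ orderOf Y = 13 := by
    intro π' ψ' h
    obtain ⟨Y, a⟩ := exists_ov π' (ht ▸ c.yt)
    obtain ⟨Y, a, e⟩ := a.odd (by decide) y13
    refine ⟨Y, a, e, orderOf_eq_prime e fun e => ?_⟩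
    have := (orderOf_dvd_of_pow_eq_one (h.mon.lx.pow_four ((a.mem_iff h).2 (.inl e))))
    rw [c.y13] at this
    norm_num at this
  by_cases hQ : c.v ∈ Q
  · rcases (h.cases_Q hQ c.vv).resolve_left c.v1 with e | e
    · obtain ⟨Y, a, y1, y2⟩ := lift _ _ h
      obtain ⟨r, h1, h2⟩ := (h.mem_A_iff hQ).1 e
      exact not_fix_13 y2 h2 (a.fix_short h (by decide) y1 h2 h1 c.yv)
    · obtain ⟨k, hk⟩ := exists_tw_e8 h hQ e (ht ▸ c.vt) none
      obtain ⟨Y, a, -, y2⟩ := lift _ _ (if0_tw h k)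
      have := orderOf_dvd_natCard (⟨Y, a.mono (if0_tw h k) hk c.yv⟩ : monoSub)
      rw [orderOf_mk, y2, card_monoSub'] at this
      norm_num at this
  · obtain ⟨Y, a, y1, y2⟩ := lift _ _ h
    obtain ⟨g, b⟩ := exists_ov π (ht ▸ c.tv)
    rcases b.cases h c.vv hQ with e | e
    · rcases isA8_or e with e | e
      · exact not_comm_13 y2 (b.comm_odd a (by decide) y1 c.yv.symm) (by rw [e.ncard_neg]; decide)
      · exact not_comm_13 y2 (b.neg.comm_odd a (by decide) y1 c.yv.symm) (by rw [e.ncard_neg]; decide)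
    · exact not_comm_13 y2 (b.comm_odd a (by decide) y1 c.yv.symm)
        (by rw [ncard_neg_of_isC e]; decide)

theorem noRu {lam : G → G → ℝ} (h : If1 z Q π ψ lam) (c : CRu G) : False := by
  obtain ⟨g, hg⟩ := isConj_iff.1 (IsConj.symm (cB_of_ord h c.tt c.o))
  exact noRu_aux h.toIf0 (c.map (MulAut.conj g).toMonoidHom (MulAut.conj g).injective) hg

end Cfsg.Agent.Pari
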